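import Groth.Prelude.Def_LambdaRing
import Groth.Prelude.Def_LambdaSp
import Mathlib.RingTheory.PowerSeries.Substitution
import Mathlib.RingTheory.PowerSeries.WellKnown

/-!
# Elementary facts about λ-operations

Additivity of `lamSeries`, sums of elements with vanishing higher λ, the γ-series, Adams
operations as logarithmic derivatives, the γ-filtration and the splitting principle.
-/

open Finset

namespace Groth.Agent.LamR

open LambdaRing PowerSeries

variable {K : Type*} [CommRing K] [LambdaOps K]

@[simp] lemma coeff_lamSeries (k : ℕ) (x : K) : PowerSeries.coeff k (lamSeries x) = LambdaOps.lam k x :=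
  PowerSeries.coeff_mk _ _

@[simp] lemma constantCoeff_lamSeries (x : K) : PowerSeries.constantCoeff (lamSeries x) = 1 := by
  rw [← coeff_zero_eq_constantCoeff_apply, coeff_lamSeries, LambdaOps.lam_zero]

lemma lamSeries_add (x y : K) : lamSeries (x + y) = lamSeries x * lamSeries y := by
  ext k
  rw [coeff_lamSeries, LambdaOps.lam_add, PowerSeries.coeff_mul, Finset.Nat.sum_antidiagonal_eq_sum_range_succ_mk]
  simp

lemma isUnit_lamSeries (x : K) : IsUnit (lamSeries x) := by
  rw [PowerSeries.isUnit_iff_constantCoeff, constantCoeff_lamSeries]; exact isUnit_one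

@[simp] lemma lamSeries_zero : lamSeries (0 : K) = 1 := by
  have h := lamSeries_add (0 : K) 0
  rw [add_zero] at h
  exact (isUnit_lamSeries (0 : K)).mul_left_cancel (by rw [mul_one]; exact h.symm)

lemma lam_zero_right {k : ℕ} (hk : k ≠ 0) : LambdaOps.lam k (0 : K) = 0 := by
  rw [← coeff_lamSeries, lamSeries_zero, PowerSeries.coeff_one, if_neg hk]

lemma lamSeries_thin {u : K} (hu : ∀ j : ℕ, 2 ≤ j → LambdaOps.lam j u = 0) :
    lamSeries u = 1 + PowerSeries.C u * PowerSeries.X := by
  ext k
  match k with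
  | 0 => simp [LambdaOps.lam_zero]
  | 1 => simp [LambdaOps.lam_one]
  | k + 2 => simp [hu (k + 2) (by omega), PowerSeries.coeff_succ_C, coeff_one]

lemma lam_succ_thin_add {u : K} (hu : ∀ j : ℕ, 2 ≤ j → LambdaOps.lam j u = 0) (k : ℕ) (y : K) :
    LambdaOps.lam (k + 1) (u + y) = LambdaOps.lam (k + 1) y + u * LambdaOps.lam k y := by
  rw [← coeff_lamSeries, lamSeries_add, lamSeries_thin hu, add_mul, one_mul, map_add, coeff_lamSeries, mul_assoc, PowerSeries.coeff_C_mul,
    PowerSeries.coeff_succ_X_mul, coeff_lamSeries]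

lemma lam_multiset_sum (s : Multiset K) (hs : ∀ u ∈ s, ∀ j : ℕ, 2 ≤ j → LambdaOps.lam j u = 0) (k : ℕ) :
    LambdaOps.lam k s.sum = s.esymm k := by
  induction s using Multiset.induction_on generalizing k with
  | empty =>
    cases k with
    | zero => simp [Multiset.esymm, LambdaOps.lam_zero]
    | succ k => rw [Multiset.sum_zero, lam_zero_right (Nat.succ_ne_zero k)]; simp [Multiset.esymm]
  | cons a s ih =>
    have ih' := fun k => ih (fun u hu => hs u (Multiset.mem_cons_of_mem hu)) k
    cases k with
    | zero => simp [Multiset.esymm, LambdaOps.lam_zero]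
    | succ k =>
      rw [Multiset.sum_cons, lam_succ_thin_add (hs a (Multiset.mem_cons_self a s)), ih', ih']
      simp [Multiset.esymm, Multiset.powersetCard_cons, Multiset.map_map, Multiset.sum_map_mul_left]

/-- the series `t/(1-t)` -/
noncomputable def gs (R : Type*) [CommRing R] : PowerSeries R :=
  PowerSeries.X * (PowerSeries.invOneSubPow R 1 : PowerSeries R)

lemma hasSubst_gs (R : Type*) [CommRing R] : PowerSeries.HasSubst (gs R) :=
  PowerSeries.HasSubst.of_constantCoeff_zero' (by simp [gs])

lemma coeff_gs_pow (R : Type*) [CommRing R] (j k : ℕ) :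
    PowerSeries.coeff k (gs R ^ (j + 1)) = if j + 1 ≤ k then ((k - 1).choose j : R) else 0 := by
  rw [gs, mul_pow, PowerSeries.coeff_X_pow_mul']
  have : ((PowerSeries.invOneSubPow R 1 : PowerSeries R)) ^ (j + 1) = (PowerSeries.invOneSubPow R (j + 1) : PowerSeries R) := by
    rw [← Units.val_pow_eq_pow_val]
    congr 1
    induction j with
    | zero => simp
    | succ j ih => rw [pow_succ, ih, ← PowerSeries.invOneSubPow_add]
  rw [this]
  split_ifs with h
  · rw [PowerSeries.invOneSubPow_val_succ_eq_mk_add_choose, PowerSeries.coeff_mk]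
    congr 2; omega
  · rfl

lemma mk_gamma_eq_subst (x : K) :
    PowerSeries.mk (fun k => gamma k x) = PowerSeries.subst (gs K) (lamSeries x) := by
  ext k
  rw [PowerSeries.coeff_mk, PowerSeries.coeff_subst' (hasSubst_gs K)]
  rw [finsum_eq_sum_of_support_subset _ (s := range (k + 1)) (by
    intro d hd
    rw [Function.mem_support] at hd
    simp only [coe_range, Set.mem_Iio]
    by_contra h
    apply hd
    obtain ⟨d, rfl⟩ : ∃ e, d = e + 1 := ⟨d - 1, by omega⟩
    rw [coeff_gs_pow, if_neg (by omega), smul_zero])]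
  rcases eq_or_ne k 0 with hk | hk
  · subst hk; simp [gamma, LambdaOps.lam_zero]
  · rw [gamma, if_neg hk]
    refine sum_congr rfl fun d hd => ?_
    rw [coeff_lamSeries, smul_eq_mul]
    cases d with
    | zero => simp [coeff_one, hk]
    | succ d =>
      rw [coeff_gs_pow, if_neg (Nat.succ_ne_zero d), if_pos (show d + 1 ≤ k by rw [mem_range] at hd; omega)]
      simp [mul_comm]

lemma gamma_zero (x : K) : gamma 0 x = 1 := if_pos rfl

lemma gamma_one (x : K) : gamma 1 x = x := by
  simp [gamma, sum_range_succ, LambdaOps.lam_one]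

lemma gamma_add (k : ℕ) (x y : K) :
    gamma k (x + y) = ∑ i ∈ range (k + 1), gamma i x * gamma (k - i) y := by
  have h : PowerSeries.mk (fun k => gamma k (x + y)) =
      PowerSeries.mk (fun k => gamma k x) * PowerSeries.mk (fun k => gamma k y) := by
    rw [mk_gamma_eq_subst, mk_gamma_eq_subst, mk_gamma_eq_subst, lamSeries_add, PowerSeries.subst_mul (hasSubst_gs K)]
  have := congrArg (PowerSeries.coeff k) h
  rwa [PowerSeries.coeff_mk, PowerSeries.coeff_mul, Finset.Nat.sum_antidiagonal_eq_sum_range_succ_mk,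
    sum_congr rfl (fun i _ => by rw [PowerSeries.coeff_mk, PowerSeries.coeff_mk])] at this

section LamOne

variable (h1 : ∀ j : ℕ, 2 ≤ j → LambdaOps.lam j (1 : K) = 0)
include h1

lemma lam_natCast (n k : ℕ) : LambdaOps.lam k (n : K) = (n.choose k : K) := by
  induction n generalizing k with
  | zero =>
    cases k with
    | zero => simp [LambdaOps.lam_zero]
    | succ k => rw [Nat.cast_zero, lam_zero_right (Nat.succ_ne_zero k)]; simp
  | succ n ih =>
    cases k with
    | zero => simp [LambdaOps.lam_zero]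
    | succ k =>
      rw [Nat.cast_succ, add_comm (n : K) 1, lam_succ_thin_add h1, ih, ih, Nat.choose_succ_succ, one_mul, Nat.cast_add]
      exact add_comm _ _

lemma gamma_eq_lam (n : ℕ) (x : K) : gamma n x = LambdaOps.lam n (x + (n : K) - 1) := by
  cases n with
  | zero => rw [gamma_zero, LambdaOps.lam_zero]
  | succ n =>
    rw [show x + ((n + 1 : ℕ) : K) - 1 = x + (n : K) by push_cast; ring, LambdaOps.lam_add, gamma, if_neg (Nat.succ_ne_zero n)]
    refine sum_congr rfl fun i hi => ?_
    rw [lam_natCast h1]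
    cases i with
    | zero => simp [Nat.choose_succ_self]
    | succ i =>
      rw [mem_range] at hi
      rw [if_neg (Nat.succ_ne_zero i), mul_comm]
      congr 2
      simp only [Nat.add_sub_cancel, Nat.sub_zero, Nat.succ_sub_succ_eq_sub]
      rw [Nat.choose_symm (by omega)]

lemma lam_eq_alternating (n : ℕ) (y : K) :
    LambdaOps.lam n y = (-1 : K) ^ n * ∑ i ∈ range (n + 1), (-1 : K) ^ i * LambdaOps.lam i (y + 1) := by
  induction n with
  | zero => simp [LambdaOps.lam_zero]
  | succ n ih =>
    have e : (-1 : K) ^ (n + 1) * (-1) ^ (n + 1) = 1 := by rw [← pow_add, Even.neg_one_pow ⟨n + 1, rfl⟩]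
    rw [sum_range_succ, mul_add, ← mul_assoc ((-1 : K) ^ (n + 1)) ((-1 : K) ^ (n + 1)), e, one_mul,
      add_comm y 1, lam_succ_thin_add h1, one_mul, add_comm 1 y]
    rw [pow_succ, mul_assoc, neg_one_mul, mul_neg, ← ih]
    ring

end LamOne

section Adams

lemma logDerivSeries_eq_iff (x : K) (g : PowerSeries K) :
    logDerivSeries x = g ↔ PowerSeries.derivative K (lamSeries x) = g * lamSeries x := by
  constructor
  · rintro rfl
    rw [logDerivSeries, mul_assoc, mul_comm _ (lamSeries x), PowerSeries.mul_invOfUnit _ 1 (by simp), mul_one]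
  · intro h
    rw [logDerivSeries, h, mul_assoc, PowerSeries.mul_invOfUnit _ 1 (by simp), mul_one]

lemma logDerivSeries_spec (x : K) :
    PowerSeries.derivative K (lamSeries x) = logDerivSeries x * lamSeries x :=
  (logDerivSeries_eq_iff x _).1 rfl

lemma logDerivSeries_add (x y : K) : logDerivSeries (x + y) = logDerivSeries x + logDerivSeries y := by
  rw [logDerivSeries_eq_iff, lamSeries_add, Derivation.leibniz, smul_eq_mul, smul_eq_mul, logDerivSeries_spec x,
    logDerivSeries_spec y]
  ring

lemma logDerivSeries_thin {u : K} (hu : ∀ j : ℕ, 2 ≤ j → LambdaOps.lam j u = 0) :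
    logDerivSeries u = PowerSeries.mk fun k => (-1 : K) ^ k * u ^ (k + 1) := by
  rw [logDerivSeries_eq_iff, lamSeries_thin hu]
  ext k
  rw [PowerSeries.coeff_derivative, mul_add _ (1 : PowerSeries K), mul_one, ← mul_assoc, map_add, map_add, PowerSeries.coeff_one,
    if_neg (Nat.succ_ne_zero k), zero_add, PowerSeries.coeff_succ_mul_X, PowerSeries.coeff_mk]
  cases k with
  | zero => simp
  | succ k =>
    rw [PowerSeries.coeff_succ_C, zero_mul, PowerSeries.coeff_succ_mul_X, mul_comm _ (PowerSeries.C u), PowerSeries.coeff_C_mul,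
      PowerSeries.coeff_mk]
    ring

lemma adamsOp_add (k : ℕ) (x y : K) : adamsOp k (x + y) = adamsOp k x + adamsOp k y := by
  cases k with
  | zero => simp [adamsOp]
  | succ k => simp only [adamsOp, logDerivSeries_add, map_add, mul_add]

lemma adamsOp_thin {u : K} (hu : ∀ j : ℕ, 2 ≤ j → LambdaOps.lam j u = 0) (k : ℕ) (hk : 1 ≤ k) :
    adamsOp k u = u ^ k := by
  obtain ⟨k, rfl⟩ : ∃ j, k = j + 1 := ⟨k - 1, by omega⟩
  rw [adamsOp, logDerivSeries_thin hu, PowerSeries.coeff_mk, ← mul_assoc, ← pow_add, Even.neg_one_pow ⟨k, rfl⟩, one_mul]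

end Adams

section Pos

variable (P : PosStructure K)

lemma one_mem_pos : (1 : K) ∈ P.pos := by simpa using P.natCast_mem 1 one_pos

lemma isLine_one : P.IsLine 1 := ⟨one_mem_pos P, map_one P.aug⟩

lemma isLine_mul {u v : K} (hu : P.IsLine u) (hv : P.IsLine v) : P.IsLine (u * v) :=
  ⟨P.mul_mem _ _ hu.1 hv.1, by rw [map_mul, hu.2, hv.2, mul_one]⟩

lemma isLine_pow {u : K} (hu : P.IsLine u) : ∀ n : ℕ, P.IsLine (u ^ n)
  | 0 => by rw [pow_zero]; exact isLine_one P
  | n + 1 => by rw [pow_succ]; exact isLine_mul P (isLine_pow hu n) hu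

lemma lam_line {u : K} (hu : P.IsLine u) (j : ℕ) (hj : 2 ≤ j) : LambdaOps.lam j u = 0 :=
  P.lam_eq_zero u hu.1 j (by rw [hu.2]; exact_mod_cast hj)

lemma lam_one_pos (P : PosStructure K) (j : ℕ) (hj : 2 ≤ j) : LambdaOps.lam j (1 : K) = 0 :=
  lam_line P (isLine_one P) j hj

lemma derivative_rescale {R : Type*} [CommRing R] (a : R) (f : PowerSeries R) :
    PowerSeries.derivative R (PowerSeries.rescale a f) =
      PowerSeries.C a * PowerSeries.rescale a (PowerSeries.derivative R f) := by
  ext n
  rw [PowerSeries.coeff_derivative, PowerSeries.coeff_rescale, PowerSeries.coeff_C_mul, PowerSeries.coeff_rescale,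
    PowerSeries.coeff_derivative]
  ring

lemma adams_zero (x : K) : adams P 0 x = (P.aug x : K) := by
  simp [adams, adamsSeries, mul_assoc]

lemma adams_succ (j : ℕ) (x : K) : adams P (j + 1) x = adamsOp (j + 1) x := by
  rw [adams, adamsSeries, map_sub, PowerSeries.coeff_succ_C, zero_sub, mul_assoc, PowerSeries.coeff_succ_X_mul,
    derivative_rescale, logDerivSeries_spec, map_mul (PowerSeries.rescale (-1 : K)), ← mul_assoc, mul_assoc,
    PowerSeries.mul_invOfUnit _ 1 (by rw [← coeff_zero_eq_constantCoeff_apply, PowerSeries.coeff_rescale]; simp [LambdaOps.lam_zero]),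
    mul_one, PowerSeries.coeff_C_mul, PowerSeries.coeff_rescale, adamsOp]
  ring

lemma adams_eq_adamsOp {j : ℕ} (hj : 1 ≤ j) (x : K) : adams P j x = adamsOp j x := by
  obtain ⟨j, rfl⟩ : ∃ i, j = i + 1 := ⟨j - 1, by omega⟩
  exact adams_succ P j x

lemma adams_line {u : K} (hu : P.IsLine u) (j : ℕ) : adams P j u = u ^ j := by
  cases j with
  | zero => rw [adams_zero, hu.2]; simp
  | succ j => rw [adams_succ, adamsOp_thin (lam_line P hu) _ (by omega)]

lemma adams_add (j : ℕ) (x y : K) : adams P j (x + y) = adams P j x + adams P j y := by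
  cases j with
  | zero => simp [adams_zero]
  | succ j => simp [adams_succ, adamsOp_add]

/-- ψ^j as an additive map -/
noncomputable def adamsHom (j : ℕ) : K →+ K := AddMonoidHom.mk' (adams P j) (adams_add P j)

@[simp] lemma adamsHom_apply (j : ℕ) (x : K) : adamsHom P j x = adams P j x := rfl

lemma mem_gammaFiltration_zero (x : K) : x ∈ gammaFiltration P 0 := by
  simp [gammaFiltration]

lemma mem_of_gens {n : ℕ} (l : List (ℕ × K)) (hl : ∀ p ∈ l, P.aug p.2 = 0) (hn : n ≤ (l.map Prod.fst).sum) :
    (l.map fun p => gamma p.1 p.2).prod ∈ gammaFiltration P n := by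
  rw [gammaFiltration]; split_ifs
  · trivial
  · exact AddSubgroup.subset_closure ⟨l, hl, hn, rfl⟩

lemma gammaFiltration_anti {m n : ℕ} (h : m ≤ n) : gammaFiltration P n ≤ gammaFiltration P m := by
  rcases Nat.eq_zero_or_pos m with rfl | hm
  · exact fun x _ => mem_gammaFiltration_zero P x
  · rw [gammaFiltration, gammaFiltration, if_neg (by omega), if_neg (by omega)]
    exact AddSubgroup.closure_mono fun y ⟨l, h1, h2, h3⟩ => ⟨l, h1, h.trans h2, h3⟩

lemma smul_mem_gammaFiltration {n : ℕ} (a : K) {x : K} (hx : x ∈ gammaFiltration P n) :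
    a * x ∈ gammaFiltration P n := by
  rcases Nat.eq_zero_or_pos n with rfl | hn
  · exact mem_gammaFiltration_zero P _
  rw [gammaFiltration, if_neg (by omega)] at hx
  induction hx using AddSubgroup.closure_induction with
  | zero => rw [mul_zero]; exact zero_mem _
  | add _ _ _ _ h h' => rw [mul_add]; exact add_mem h h'
  | neg _ _ h => rw [mul_neg]; exact neg_mem h
  | mem y hy =>
    obtain ⟨l, h1, h2, rfl⟩ := hy
    have hd : (P.aug a : K) * (l.map fun p => gamma p.1 p.2).prod + (a - (P.aug a : K)) * (l.map fun p => gamma p.1 p.2).prod ∈ gammaFiltration P n := by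
      refine add_mem ?_ (mem_of_gens P ((1, a - (P.aug a : K)) :: l) ?_ ?_ |> fun h => by simpa [gamma_one] using h)
      · rw [← zsmul_eq_mul]; exact zsmul_mem (mem_of_gens P l h1 h2) _
      · simp only [List.forall_mem_cons]
        exact ⟨by simp, h1⟩
      · simp only [List.map_cons, List.sum_cons]; omega
    rw [← add_mul, add_sub_cancel] at hd
    exact hd

lemma mul_mem_gammaFiltration {m n : ℕ} {x y : K} (hx : x ∈ gammaFiltration P m) (hy : y ∈ gammaFiltration P n) :
    x * y ∈ gammaFiltration P (m + n) := by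
  rcases Nat.eq_zero_or_pos m with rfl | hm
  · rw [zero_add]; exact smul_mem_gammaFiltration P x hy
  rcases Nat.eq_zero_or_pos n with rfl | hn
  · rw [add_zero, mul_comm]; exact smul_mem_gammaFiltration P y hx
  rw [gammaFiltration, if_neg (by omega)] at hx hy
  induction hx using AddSubgroup.closure_induction with
  | zero => rw [zero_mul]; exact zero_mem _
  | add _ _ _ _ h h' => rw [add_mul]; exact add_mem h h'
  | neg _ _ h => rw [neg_mul]; exact neg_mem h
  | mem a ha =>
    induction hy using AddSubgroup.closure_induction with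
    | zero => rw [mul_zero]; exact zero_mem _
    | add _ _ _ _ h h' => rw [mul_add]; exact add_mem h h'
    | neg _ _ h => rw [mul_neg]; exact neg_mem h
    | mem b hb =>
      obtain ⟨l, h1, h2, rfl⟩ := ha
      obtain ⟨l', h1', h2', rfl⟩ := hb
      rw [← List.prod_append, ← List.map_append]
      refine mem_of_gens P _ ?_ ?_
      · intro p hp
        rcases List.mem_append.1 hp with h | h
        exacts [h1 p h, h1' p h]
      · rw [List.map_append, List.sum_append]; omega

end Pos

section Splitting

universe u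

variable {K : Type u} [CommRing K] [LambdaOps K] {P : PosStructure K}

lemma map_lamSeries {K' : Type u} [CommRing K'] [LambdaOps K'] {f : K →+* K'} (hf : IsLambdaHom f) (x : K) :
    PowerSeries.map f (lamSeries x) = lamSeries (f x) := by
  ext k; rw [PowerSeries.coeff_map, coeff_lamSeries, coeff_lamSeries, hf]

lemma map_adamsOp {K' : Type u} [CommRing K'] [LambdaOps K'] {f : K →+* K'} (hf : IsLambdaHom f) (j : ℕ) (x : K) :
    f (adamsOp j x) = adamsOp j (f x) := by
  cases j with
  | zero => simp [adamsOp]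
  | succ j =>
    have : logDerivSeries (f x) = PowerSeries.map f (logDerivSeries x) := by
      rw [logDerivSeries_eq_iff, ← map_lamSeries hf, ← map_mul, ← logDerivSeries_spec]
      ext k; simp [PowerSeries.coeff_derivative]
    simp [adamsOp, this]

lemma map_gamma {K' : Type u} [CommRing K'] [LambdaOps K'] {f : K →+* K'} (hf : IsLambdaHom f) (k : ℕ) (x : K) :
    f (gamma k x) = gamma k (f x) := by
  rcases eq_or_ne k 0 with h | h
  · subst h; simp [gamma]
  · rw [gamma, gamma, if_neg h, if_neg h, map_sum]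
    refine sum_congr rfl fun i _ => ?_
    rw [map_mul, map_natCast]
    split_ifs
    · rw [map_zero]
    · rw [hf]

lemma map_adams {K' : Type u} [CommRing K'] [LambdaOps K'] {P' : PosStructure K'} {f : K →+* K'}
    (hf : IsExtension P P' f) (j : ℕ) (x : K) : f (adams P j x) = adams P' j (f x) := by
  cases j with
  | zero => rw [adams_zero, adams_zero, hf.aug_comp, map_intCast]
  | succ j => rw [adams_succ, adams_succ, map_adamsOp hf.isLambdaHom]

lemma isExtension_comp {K' K'' : Type u} [CommRing K'] [LambdaOps K'] [CommRing K''] [LambdaOps K'']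
    {P' : PosStructure K'} {P'' : PosStructure K''} {f : K →+* K'} {g : K' →+* K''}
    (hf : IsExtension P P' f) (hg : IsExtension P' P'' g) : IsExtension P P'' (g.comp f) where
  isLambdaHom i x := by simp [hf.isLambdaHom i x, hg.isLambdaHom i]
  injective := hg.injective.comp hf.injective
  aug_comp x := by simp [hg.aug_comp, hf.aug_comp]
  pos_subset e he := hg.pos_subset _ (hf.pos_subset _ he)

lemma isExtension_id : IsExtension P P (RingHom.id K) where
  isLambdaHom _ _ := rfl
  injective := Function.injective_id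
  aug_comp _ := rfl
  pos_subset _ he := he

lemma isLine_map {K' : Type u} [CommRing K'] [LambdaOps K'] {P' : PosStructure K'} {f : K →+* K'}
    (hf : IsExtension P P' f) {u : K} (hu : P.IsLine u) : P'.IsLine (f u) :=
  ⟨hf.pos_subset u hu.1, by rw [hf.aug_comp, hu.2]⟩

/-- Any finite family of positive elements splits simultaneously in one extension. -/
lemma exists_splitting (hK : HasSplitting K P) (l : List K) (hl : ∀ e ∈ l, e ∈ P.pos) :
    ∃ (L : PosLambdaRing.{u}) (f : K →+* L.carrier), IsExtension P L.posStr f ∧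
      ∀ e ∈ l, ∃ s : Multiset L.carrier, (∀ v ∈ s, L.posStr.IsLine v) ∧ s.sum = f e := by
  obtain ⟨C, hC, hstep⟩ := hK
  suffices ∃ L ∈ C, ∃ f : K →+* L.carrier, IsExtension P L.posStr f ∧
      ∀ e ∈ l, ∃ s : Multiset L.carrier, (∀ v ∈ s, L.posStr.IsLine v) ∧ s.sum = f e by
    obtain ⟨L, -, f, hf⟩ := this; exact ⟨L, f, hf⟩
  induction l with
  | nil => exact ⟨⟨K, P⟩, hC, RingHom.id K, isExtension_id, by simp⟩
  | cons e l ih =>
    obtain ⟨L, hL, f, hf, hs⟩ := ih fun x hx => hl x (List.mem_cons_of_mem _ hx)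
    obtain ⟨L', hL', g, hg, t, ht, ht'⟩ := hstep L hL (f e) (hf.pos_subset e (hl e List.mem_cons_self))
    refine ⟨L', hL', g.comp f, isExtension_comp hf hg, fun x hx => ?_⟩
    rcases List.mem_cons.1 hx with rfl | hx
    · exact ⟨t, ht, ht'⟩
    · obtain ⟨s, h1, h2⟩ := hs x hx
      refine ⟨s.map g, fun v hv => ?_, ?_⟩
      · obtain ⟨w, hw, rfl⟩ := Multiset.mem_map.1 hv; exact isLine_map hg (h1 w hw)
      · rw [← map_multiset_sum, h2]; rfl

lemma adams_multiset_sum (s : Multiset K) (hs : ∀ v ∈ s, P.IsLine v) (j : ℕ) :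
    adams P j s.sum = (s.map (· ^ j)).sum := by
  rw [← adamsHom_apply, map_multiset_sum]
  exact congrArg _ (Multiset.map_congr rfl fun v hv => adams_line P (hs v hv) j)

lemma adams_mul (hK : HasSplitting K P) (j : ℕ) (x y : K) : adams P j (x * y) = adams P j x * adams P j y := by
  suffices hpos : ∀ e ∈ P.pos, ∀ f ∈ P.pos, adams P j (e * f) = adams P j e * adams P j f by
    obtain ⟨e, f, he, hf, rfl⟩ := P.exists_sub x
    obtain ⟨e', f', he', hf', rfl⟩ := P.exists_sub y
    rw [show (e - f) * (e' - f') = e * e' - e * f' - f * e' + f * f' by ring]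
    simp only [← adamsHom_apply, map_sub, map_add]
    simp only [adamsHom_apply, hpos _ he _ he', hpos _ he _ hf', hpos _ hf _ he', hpos _ hf _ hf']
    ring
  intro e he f hf
  obtain ⟨L, g, hg, hs⟩ := exists_splitting hK [e, f] (by simp [he, hf])
  obtain ⟨s, hs1, hs2⟩ := hs e (by simp)
  obtain ⟨t, ht1, ht2⟩ := hs f (by simp)
  apply hg.injective
  rw [map_mul, map_adams hg, map_adams hg, map_adams hg, map_mul, ← hs2, ← ht2, adams_multiset_sum s hs1,
    adams_multiset_sum t ht1]
  clear hs2
  induction s using Multiset.induction_on with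
  | empty => simp [← adamsHom_apply]
  | cons a s ih =>
    rw [Multiset.sum_cons, add_mul, adams_add, ih fun v hv => hs1 v (Multiset.mem_cons_of_mem hv),
      Multiset.map_cons, Multiset.sum_cons, add_mul]
    congr 1
    rw [show a * t.sum = (t.map fun v => a * v).sum by rw [Multiset.sum_map_mul_left, Multiset.map_id'],
      adams_multiset_sum _ (fun v hv => ?_)]
    · rw [Multiset.map_map, ← Multiset.sum_map_mul_left]
      simp [Function.comp_def, mul_pow]
    · obtain ⟨w, hw, rfl⟩ := Multiset.mem_map.1 hv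
      exact isLine_mul _ (hs1 a (Multiset.mem_cons_self a s)) (ht1 w hw)

lemma adams_one (j : ℕ) : adams P j (1 : K) = 1 := by rw [adams_line P (isLine_one P), one_pow]

lemma adams_adams (hK : HasSplitting K P) (i j : ℕ) (x : K) : adams P i (adams P j x) = adams P (i * j) x := by
  obtain ⟨e, f, he, hf, rfl⟩ := P.exists_sub x
  obtain ⟨L, g, hg, hs⟩ := exists_splitting hK [e, f] (by simp [he, hf])
  obtain ⟨s, hs1, hs2⟩ := hs e (by simp)
  obtain ⟨t, ht1, ht2⟩ := hs f (by simp)
  apply hg.injective
  simp only [map_adams hg, map_sub, ← hs2, ← ht2]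
  have : ∀ s : Multiset L.carrier, (∀ v ∈ s, L.posStr.IsLine v) →
      adams L.posStr i (adams L.posStr j s.sum) = adams L.posStr (i * j) s.sum := fun s hs => by
    rw [adams_multiset_sum s hs, adams_multiset_sum s hs, adams_multiset_sum _ (fun v hv => ?_), Multiset.map_map]
    · simp [Function.comp_def, ← pow_mul, mul_comm]
    · obtain ⟨w, hw, rfl⟩ := Multiset.mem_map.1 hv; exact isLine_pow _ (hs w hw) j
  have h2 : ∀ k, ∀ a b : L.carrier, adams L.posStr k (a - b) = adams L.posStr k a - adams L.posStr k b :=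
    fun k => map_sub (adamsHom L.posStr k)
  rw [h2, h2, h2, this s hs1, this t ht1]

lemma aug_lam (hK : HasSplitting K P) {e : K} (he : e ∈ P.pos) (i : ℕ) :
    P.aug (LambdaOps.lam i e) = ((P.aug e).toNat.choose i : ℤ) := by
  obtain ⟨L, g, hg, hs⟩ := exists_splitting hK [e] (by simp [he])
  obtain ⟨s, hs1, hs2⟩ := hs e (by simp)
  have hcard : ∀ t : Multiset L.carrier, (∀ v ∈ t, L.posStr.IsLine v) → L.posStr.aug t.prod = 1 ∧ L.posStr.aug t.sum = t.card := fun t ht => by
    rw [map_multiset_prod, map_multiset_sum, Multiset.map_congr rfl (fun v hv => (ht v hv).2)]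
    simp
  rw [← hg.aug_comp, ← hg.aug_comp e, hg.isLambdaHom, ← hs2, (hcard s hs1).2, Int.toNat_natCast,
    lam_multiset_sum s fun v hv => lam_line _ (hs1 v hv), Multiset.esymm, map_multiset_sum, Multiset.map_map,
    Multiset.map_congr rfl (fun t ht => show (L.posStr.aug ∘ Multiset.prod) t = 1 from
      (hcard t fun v hv => hs1 v (Multiset.mem_of_le (Multiset.mem_powersetCard.1 ht).1 hv)).1)]
  simp

lemma card_eq_aug {t : Multiset K} (ht : ∀ v ∈ t, P.IsLine v) : P.aug t.sum = t.card := by
  rw [map_multiset_sum, Multiset.map_congr rfl (fun v hv => (ht v hv).2)]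
  simp

end Splitting

end Groth.Agent.LamR
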