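import Groth.Agent.LamR.AdU

/-!
# Adams operations and the γ-filtration of a λ-ring with positive structure
-/

open Finset MvPolynomial

noncomputable section

namespace Groth.Agent.LamR

open LambdaRing

universe u

variable {K : Type u} [CommRing K] [LambdaOps K]

/-- the values `γ^{i+1} x` -/
def gamv (x : K) (i : ℕ) : K := gamma (i + 1) x

lemma gamma_thin_sub_one' (h1 : ∀ j : ℕ, 2 ≤ j → LambdaOps.lam j (1 : K) = 0) {y : K}
    (hy : ∀ j : ℕ, 2 ≤ j → LambdaOps.lam j y = 0) (j : ℕ) : gamma (j + 2) (y - 1) = 0 := by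
  rw [gamma_eq_lam h1, show y - 1 + ((j + 2 : ℕ) : K) - 1 = y + (j : K) by push_cast; ring,
    lam_succ_thin_add hy, lam_natCast h1, lam_natCast h1,
    Nat.choose_eq_zero_of_lt (by omega), Nat.choose_eq_zero_of_lt (by omega), Nat.cast_zero, mul_zero, add_zero]

lemma gamma_zero_right {k : ℕ} (hk : k ≠ 0) : gamma k (0 : K) = 0 := by
  rw [gamma, if_neg hk]
  refine sum_eq_zero fun i _ => ?_
  rcases eq_or_ne i 0 with rfl | hi <;> simp [*, lam_zero_right]

lemma gamma_multiset_sum (s : Multiset K) (hs : ∀ u ∈ s, ∀ j : ℕ, gamma (j + 2) u = 0) (k : ℕ) :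
    gamma k s.sum = s.esymm k := by
  induction s using Multiset.induction_on generalizing k with
  | empty =>
    cases k with
    | zero => simp [esymm_zero', gamma_zero]
    | succ k => rw [Multiset.sum_zero, gamma_zero_right (Nat.succ_ne_zero k), esymm_eq_zero_of_card_lt (by simp)]
  | cons a s ih =>
    have ih' := fun k => ih (fun u hu => hs u (Multiset.mem_cons_of_mem hu)) k
    cases k with
    | zero => simp [esymm_zero', gamma_zero]
    | succ k =>
      rw [Multiset.sum_cons, gamma_add, Finset.sum_range_succ', Finset.sum_range_succ',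
        Finset.sum_eq_zero fun i _ => by rw [hs a (Multiset.mem_cons_self a s) i, zero_mul],
        gamma_zero, gamma_one, ih', ih', esymm_cons']
      simp [add_comm]

variable (P : PosStructure K)

lemma gamma_mem {k : ℕ} {x : K} (hx : P.aug x = 0) : gamma k x ∈ gammaFiltration P k := by
  have := mem_of_gens P [(k, x)] (by simpa using hx) (n := k) (by simp)
  simpa using this

lemma aeval_gamv_mem [Algebra ℤ K] {x : K} (hx : P.aug x = 0) {q : MvPolynomial ℕ ℤ} {d : ℕ}
    (hq : IsWeightedHomogeneous wt q d) : aeval (gamv x) q ∈ gammaFiltration P d := by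
  rw [q.as_sum, map_sum]
  refine sum_mem fun e he => ?_
  rw [aeval_monomial]
  refine smul_mem_gammaFiltration P _ ?_
  rw [← hq (mem_support_iff.1 he), Finsupp.weight_apply, Finsupp.sum, Finsupp.prod]
  induction e.support using Finset.induction_on with
  | empty => simpa using mem_gammaFiltration_zero P 1
  | insert i s hi ih =>
    rw [prod_insert hi, sum_insert hi]
    refine mul_mem_gammaFiltration P ?_ ih
    induction e i with
    | zero => simpa using mem_gammaFiltration_zero P 1
    | succ n ihn =>
      rw [pow_succ, succ_nsmul]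
      exact mul_mem_gammaFiltration P ihn (gamma_mem P hx)

/-- `ψ^j` acts on `a ∈ F^n` as `j^n` modulo `F^{n+1}` -/
def AdOK (j n : ℕ) (a : K) : Prop :=
  a ∈ gammaFiltration P n ∧ adams P j a - (j : K) ^ n * a ∈ gammaFiltration P (n + 1)

variable {P}

lemma AdOK.mul (hK : HasSplitting K P) {j m n : ℕ} {a b : K} (ha : AdOK P j m a) (hb : AdOK P j n b) :
    AdOK P j (m + n) (a * b) := by
  refine ⟨mul_mem_gammaFiltration P ha.1 hb.1, ?_⟩
  have hb' : adams P j b ∈ gammaFiltration P n := by
    have := add_mem (gammaFiltration_anti P (Nat.le_succ n) hb.2) (smul_mem_gammaFiltration P ((j : K) ^ n) hb.1)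
    rwa [sub_add_cancel] at this
  rw [adams_mul hK, show adams P j a * adams P j b - (j : K) ^ (m + n) * (a * b) =
    (adams P j a - (j : K) ^ m * a) * adams P j b + (j : K) ^ m * (a * (adams P j b - (j : K) ^ n * b)) by ring]
  refine add_mem ?_ (smul_mem_gammaFiltration P _ ?_)
  · have := mul_mem_gammaFiltration P ha.2 hb'
    rwa [show m + 1 + n = m + n + 1 by omega] at this
  · have := mul_mem_gammaFiltration P ha.1 hb.2
    rwa [← add_assoc] at this

lemma adOK_one (j : ℕ) : AdOK P j 0 (1 : K) :=
  ⟨mem_gammaFiltration_zero P 1, by rw [adams_one, pow_zero, mul_one, sub_self]; exact zero_mem _⟩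

lemma exists_splitting' (hK : HasSplitting K P) (l : List K) (hl : ∀ e ∈ l, e ∈ P.pos) :
    ∃ (L : PosLambdaRing.{u}) (f : K →+* L.carrier), IsExtension P L.posStr f ∧
      HasSplitting L.carrier L.posStr ∧
      ∀ e ∈ l, ∃ s : Multiset L.carrier, (∀ v ∈ s, L.posStr.IsLine v) ∧ s.sum = f e := by
  obtain ⟨C, hC, hstep⟩ := hK
  suffices ∃ L ∈ C, ∃ f : K →+* L.carrier, IsExtension P L.posStr f ∧
      ∀ e ∈ l, ∃ s : Multiset L.carrier, (∀ v ∈ s, L.posStr.IsLine v) ∧ s.sum = f e by
    obtain ⟨L, hL, f, hf, hs⟩ := this; exact ⟨L, f, hf, ⟨C, hL, hstep⟩, hs⟩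
  induction l with
  | nil => exact ⟨⟨K, P⟩, hC, RingHom.id K, isExtension_id, by simp⟩
  | cons e l ih =>
    obtain ⟨L, hL, f, hf, hs⟩ := ih fun x hx => hl x (List.mem_cons_of_mem _ hx)
    obtain ⟨L', hL', g, hg, t, ht, ht'⟩ := hstep L hL (f e) (hf.pos_subset e (hl e List.mem_cons_self))
    refine ⟨L', hL', g.comp f, isExtension_comp hf hg, fun x hx => ?_⟩
    rcases List.mem_cons.1 hx with rfl | hx
    · exact ⟨t, ht, ht'⟩
    · obtain ⟨s, h1, h2⟩ := hs x hx
      refine ⟨s.map g, fun v hv => ?_, ?_⟩
      · obtain ⟨w, hw, rfl⟩ := Multiset.mem_map.1 hv; exact isLine_map hg (h1 w hw)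
      · rw [← map_multiset_sum, h2]; rfl

lemma adOK_gamma_pos (hK : HasSplitting K P) (j : ℕ) {e : K} (he : e ∈ P.pos) (r : ℕ) :
    AdOK P j r (gamma r (e - ((P.aug e).toNat : K))) := by
  have haug : P.aug (e - ((P.aug e).toNat : K)) = 0 := by
    rw [map_sub, map_natCast, Int.toNat_of_nonneg (P.aug_pos e he).le, sub_self]
  cases r with
  | zero => rw [gamma_zero]; exact adOK_one j
  | succ r =>
    refine ⟨gamma_mem P haug, ?_⟩
    set w := e - ((P.aug e).toNat : K)
    obtain ⟨L, g, hg, hL, hs⟩ := exists_splitting' hK [e] (by simp [he])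
    obtain ⟨s, hs1, hs2⟩ := hs e (by simp)
    have hn : (P.aug e).toNat = s.card := by rw [← hg.aug_comp, ← hs2, card_eq_aug hs1, Int.toNat_natCast]
    let t := s.map fun v => v - 1
    have hgam : ∀ k, g (gamma k w) = t.esymm k := fun k => by
      rw [map_gamma hg.isLambdaHom, map_sub, ← hs2, map_natCast, hn,
        ← gamma_multiset_sum t fun u hu i => by
          obtain ⟨v, hv, rfl⟩ := Multiset.mem_map.1 hu
          exact gamma_thin_sub_one' (lam_one_pos L.posStr) (lam_line L.posStr (hs1 v hv)) i,
        Multiset.sum_map_sub, Multiset.map_id', Multiset.map_const', Multiset.sum_replicate, nsmul_one]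
    have hψ : adams P j (gamma (r + 1) w) = aeval (gamv w) (adPoly j (r + 1)) := by
      apply hg.injective
      rw [map_adams hg, hgam]
      let ψ : L.carrier →+* L.carrier :=
        RingHom.mk' ⟨⟨adams L.posStr j, adams_one j⟩, fun a b => adams_mul hL j a b⟩ (adams_add L.posStr j)
      show ψ (t.esymm (r + 1)) = g.toIntAlgHom (aeval (gamv w) (adPoly j (r + 1)))
      rw [← AlgHom.comp_apply, comp_aeval, show (fun i => g.toIntAlgHom (gamv w i)) = es t from funext fun i => hgam _,
        adPoly_spec, map_esymm, Multiset.map_map, Multiset.map_map]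
      congr 1
      refine Multiset.map_congr rfl fun v hv => ?_
      show adams L.posStr j (v - 1) = (1 + (v - 1)) ^ j - 1
      rw [← adamsHom_apply, map_sub, adamsHom_apply, adamsHom_apply, adams_line _ (hs1 v hv), adams_one, add_sub_cancel]
    rw [hψ, adPoly, map_sum]
    have hsplit : ∑ d ∈ range (j * (r + 1) + 1), aeval (gamv w) (adU j (r + 1) d) - (j : K) ^ (r + 1) * gamma (r + 1) w =
        ∑ d ∈ range (j * (r + 1) + 1), if d ≤ r + 1 then 0 else aeval (gamv w) (adU j (r + 1) d) := by
      rw [sub_eq_iff_eq_add]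
      rcases Nat.eq_zero_or_pos j with rfl | hj
      · simp [adU_eq_zero]
      have hmem : r + 1 ∈ range (j * (r + 1) + 1) := by
        rw [mem_range]; exact Nat.lt_succ_of_le (Nat.le_mul_of_pos_left _ hj)
      rw [← Finset.add_sum_erase _ _ hmem, ← Finset.add_sum_erase _ _ hmem, if_pos le_rfl, zero_add, add_comm _ (_ * _),
        adU_self, map_mul, map_pow, map_natCast, aeval_X]
      congr 1
      refine sum_congr rfl fun d hd => ?_
      rw [mem_erase] at hd
      split_ifs with h
      · rw [adU_eq_zero (by omega), map_zero]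
      · rfl
    rw [hsplit]
    refine sum_mem fun d _ => ?_
    split_ifs with h
    · exact zero_mem _
    · exact gammaFiltration_anti P (by omega) (aeval_gamv_mem P haug (isWeightedHomogeneous_adU j (r + 1) d))

lemma adOK_gamma_neg (hK : HasSplitting K P) (j : ℕ) {w : K}
    (hw : ∀ r, AdOK P j r (gamma r w)) : ∀ r, AdOK P j r (gamma r (-w)) := by
  intro r
  induction r using Nat.strong_induction_on with
  | _ r ih =>
    cases r with
    | zero => rw [gamma_zero]; exact adOK_one j
    | succ r =>
      have h := gamma_add (r + 1) w (-w)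
      rw [add_neg_cancel, gamma_zero_right (Nat.succ_ne_zero r), Finset.sum_range_succ', gamma_zero, one_mul,
        Nat.sub_zero] at h
      have e : gamma (r + 1) (-w) = -∑ i ∈ range (r + 1), gamma (i + 1) w * gamma (r + 1 - (i + 1)) (-w) := by
        linear_combination -h
      have hterm : ∀ i ∈ range (r + 1), AdOK P j (r + 1) (gamma (i + 1) w * gamma (r + 1 - (i + 1)) (-w)) := fun i hi => by
        rw [mem_range] at hi
        have := (hw (i + 1)).mul hK (ih (r + 1 - (i + 1)) (by omega))
        rwa [show i + 1 + (r + 1 - (i + 1)) = r + 1 by omega] at this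
      rw [e]
      refine ⟨neg_mem (sum_mem fun i hi => (hterm i hi).1), ?_⟩
      rw [← adamsHom_apply, map_neg, map_sum, mul_neg, mul_sum, ← neg_sub', ← sum_sub_distrib]
      exact neg_mem (sum_mem fun i hi => (hterm i hi).2)

lemma adOK_gamma (hK : HasSplitting K P) (j : ℕ) {z : K} (hz : P.aug z = 0) (r : ℕ) : AdOK P j r (gamma r z) := by
  obtain ⟨e, f, he, hf, rfl⟩ := P.exists_sub z
  rw [map_sub, sub_eq_zero] at hz
  have hw : ∀ r, AdOK P j r (gamma r (e - ((P.aug e).toNat : K))) := adOK_gamma_pos hK j he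
  have hv := adOK_gamma_neg hK j (adOK_gamma_pos hK j hf)
  rw [show e - f = (e - ((P.aug e).toNat : K)) + -(f - ((P.aug f).toNat : K)) by rw [hz]; ring, gamma_add]
  have hterm : ∀ i ∈ range (r + 1), AdOK P j r
      (gamma i (e - ((P.aug e).toNat : K)) * gamma (r - i) (-(f - ((P.aug f).toNat : K)))) := fun i hi => by
    rw [mem_range] at hi
    have := (hw i).mul hK (hv (r - i))
    rwa [show i + (r - i) = r by omega] at this
  refine ⟨sum_mem fun i hi => (hterm i hi).1, ?_⟩
  rw [← adamsHom_apply, map_sum, mul_sum, ← sum_sub_distrib]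
  exact sum_mem fun i hi => (hterm i hi).2

/-- `ψ^j` acts on the n-th step of the γ-filtration as `j^n` modulo the next step. -/
theorem adams_sub_mem (hK : HasSplitting K P) (j : ℕ) {n : ℕ} {x : K} (hx : x ∈ gammaFiltration P n) :
    adams P j x - (j : K) ^ n * x ∈ gammaFiltration P (n + 1) := by
  rcases Nat.eq_zero_or_pos n with rfl | hn
  · have haug : P.aug (x - (P.aug x : K)) = 0 := by simp
    have h := adOK_gamma hK j haug 1
    rw [gamma_one] at h
    have hc : adams P j (P.aug x : K) = (P.aug x : K) := by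
      rw [← zsmul_one, ← adamsHom_apply, map_zsmul, adamsHom_apply, adams_one]
    have h2 := sub_mem (add_mem (gammaFiltration_anti P (by omega) h.2) (smul_mem_gammaFiltration P ((j : K) ^ 1) h.1)) h.1
    rw [sub_add_cancel, ← adamsHom_apply, map_sub, adamsHom_apply, adamsHom_apply, hc] at h2
    rw [pow_zero, one_mul]
    simpa using h2
  have hx' := hx
  rw [gammaFiltration, if_neg (by omega)] at hx'
  induction hx' using AddSubgroup.closure_induction with
  | zero => rw [← adamsHom_apply, map_zero, mul_zero, sub_zero]; exact zero_mem _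
  | add a b ha hb iha ihb =>
    have ha' : a ∈ gammaFiltration P n := by rw [gammaFiltration, if_neg (by omega)]; exact ha
    have hb' : b ∈ gammaFiltration P n := by rw [gammaFiltration, if_neg (by omega)]; exact hb
    rw [adams_add, mul_add, add_sub_add_comm]
    exact add_mem (iha ha') (ihb hb')
  | neg a ha iha =>
    have ha' : a ∈ gammaFiltration P n := by rw [gammaFiltration, if_neg (by omega)]; exact ha
    rw [← adamsHom_apply, map_neg, mul_neg, ← neg_sub', adamsHom_apply]
    exact neg_mem (iha ha')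
  | mem y hy =>
    obtain ⟨l, h1, h2, rfl⟩ := hy
    have hl : AdOK P j (l.map Prod.fst).sum (l.map fun p => gamma p.1 p.2).prod := by
      clear h2 hx
      induction l with
      | nil => simpa using adOK_one (P := P) j
      | cons p l ih =>
        simpa using (adOK_gamma hK j (h1 p List.mem_cons_self) p.1).mul hK (ih fun q hq => h1 q (List.mem_cons_of_mem _ hq))
    rcases eq_or_lt_of_le h2 with h | h
    · rw [h]; exact hl.2
    · refine sub_mem ?_ (smul_mem_gammaFiltration P _ (gammaFiltration_anti P (by omega) hl.1))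
      have := add_mem (gammaFiltration_anti P (show n + 1 ≤ (l.map Prod.fst).sum + 1 by omega) hl.2)
        (smul_mem_gammaFiltration P ((j : K) ^ (l.map Prod.fst).sum) (gammaFiltration_anti P (show n + 1 ≤ _ from h) hl.1))
      rwa [sub_add_cancel] at this

end Groth.Agent.LamR
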