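import Groth.Agent.LamR.Univ

/-!
# The action of Adams operations on γ-operations

`adU j r d` is the universal polynomial giving the degree `d` part of `e_r((1+y)^j - 1)` in the
elementary symmetric functions of the `y`'s; so `ψ^j γ^r = Σ_d adU j r d (γ^1, γ^2, …)`, and this
vanishes for `d < r` and is `j^r γ^r` for `d = r`.
-/

open Finset MvPolynomial

noncomputable section

namespace Groth.Agent.LamR

open LambdaRing

/-- values of a symmetric polynomial on a multiset in any universe, through the generic multiset -/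
lemma aeval_es_eq_gen {R : Type*} [CommRing R] {B : Type} [CommRing B] [Algebra B R] (s : Multiset R) {N : ℕ}
    (a : Fin N → R) (ha : s = (Finset.univ : Finset (Fin N)).val.map a) (q : MvPolynomial ℕ B) :
    aeval (es s) q = aeval a (aeval (es (gen N B)) q) := by
  rw [← AlgHom.comp_apply, comp_aeval]
  congr 2
  funext i
  refine Eq.trans ?_ (map_es (aeval a : MvPolynomial (Fin N) B →ₐ[B] R).toRingHom (gen N B) i).symm
  congr 1
  rw [ha, gen, Multiset.map_map]
  exact Multiset.map_congr rfl fun i _ => (aeval_X a i).symm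

/-- the degree `d` part of `e_r((1+y)^j - 1)` -/
def adF {R : Type*} [CommRing R] (j r d : ℕ) (s : Multiset R) : R :=
  ((s.map fun a => (1 + Polynomial.C a * Polynomial.X) ^ j - 1).esymm r).coeff d

lemma map_adF {R S : Type*} [CommRing R] [CommRing S] (f : R →+* S) (j r d : ℕ) (s : Multiset R) :
    f (adF j r d s) = adF j r d (s.map f) := by
  rw [adF, ← Polynomial.coeff_map, ← Polynomial.coe_mapRingHom, map_esymm, Multiset.map_map, adF, Multiset.map_map]
  congr 2
  exact Multiset.map_congr rfl fun a _ => by simp

lemma exists_adU (j r d : ℕ) : ∃ q : MvPolynomial ℕ ℤ, IsWeightedHomogeneous wt q d ∧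
    ∀ (R : Type) [CommRing R] (s : Multiset R), aeval (es s) q = adF j r d s := by
  obtain ⟨q, hq, hqe⟩ := exists_sym (B := ℤ) (fun R _ _ s => adF j r d s)
    (fun R S _ _ _ _ f s => map_adF (f : R →+* S) j r d s)
    (fun R _ _ s => by
      simp only [adF, Multiset.map_cons, Polynomial.C_0, zero_mul, add_zero, one_pow, sub_self]
      cases r with
      | zero => simp [esymm_zero']
      | succ r => rw [esymm_cons', zero_mul, add_zero])
    d (fun N => by
      let P : Polynomial (MvPolynomial (Fin N) ℤ) → Prop := fun p =>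
        ∀ k, IsWeightedHomogeneous (fun _ => 1) (p.coeff k) k
      have hmul : ∀ p q, P p → P q → P (p * q) := fun p q hp hq k => by
        rw [Polynomial.coeff_mul]
        refine IsWeightedHomogeneous.sum _ _ _ fun x hx => ?_
        exact mem_antidiagonal.1 hx ▸ (hp x.1).mul (hq x.2)
      have hone : P 1 := fun k => by
        rw [Polynomial.coeff_one]; split_ifs with h
        · subst h; exact isWeightedHomogeneous_one _ _
        · exact isWeightedHomogeneous_zero _ _ _
      have hpow : ∀ p, P p → ∀ n, P (p ^ n) := fun p hp n => by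
        induction n with
        | zero => rw [pow_zero]; exact hone
        | succ n ih => rw [pow_succ]; exact hmul _ _ ih hp
      have hlin : ∀ i : Fin N, P ((1 + Polynomial.C (X i) * Polynomial.X) ^ j - 1) := fun i k => by
        rw [Polynomial.coeff_sub]
        refine (hpow _ (fun k => ?_) j k).sub (hone k)
        rw [Polynomial.coeff_add, Polynomial.coeff_one, Polynomial.coeff_C_mul, Polynomial.coeff_X]
        rcases k with - | - | k
        · simpa using isWeightedHomogeneous_one ℤ (fun _ : Fin N => 1)
        · simpa using isWeightedHomogeneous_X ℤ (fun _ : Fin N => 1) i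
        · simpa using isWeightedHomogeneous_zero ℤ (fun _ : Fin N => 1) (k + 2)
      have : P (((gen N ℤ).map fun a => (1 + Polynomial.C a * Polynomial.X) ^ j - 1).esymm r) := fun k => by
        rw [Multiset.esymm, ← Polynomial.lcoeff_apply, map_multiset_sum]
        refine isWeightedHomogeneous_multiset_sum _ _ fun x hx => ?_
        obtain ⟨y, hy, rfl⟩ := Multiset.mem_map.1 hx
        obtain ⟨t, ht, rfl⟩ := Multiset.mem_map.1 hy
        refine Multiset.prod_induction P t hmul hone (fun z hz => ?_) k
        obtain ⟨a, ha, rfl⟩ := Multiset.mem_map.1 (Multiset.mem_of_le (Multiset.mem_powersetCard.1 ht).1 hz)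
        obtain ⟨i, -, rfl⟩ := Multiset.mem_map.1 ha
        exact hlin i
      exact this d)
  exact ⟨q, hq, fun R _ s => by convert hqe R s⟩

/-- the universal polynomial for the weight `d` part of `ψ^j γ^r` -/
def adU (j r d : ℕ) : MvPolynomial ℕ ℤ := (exists_adU j r d).choose

lemma isWeightedHomogeneous_adU (j r d : ℕ) : IsWeightedHomogeneous wt (adU j r d) d :=
  (exists_adU j r d).choose_spec.1

lemma adU_spec (j r d : ℕ) {R : Type*} [CommRing R] [Algebra ℤ R] (s : Multiset R) :
    aeval (es s) (adU j r d) = adF j r d s := by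
  obtain rfl : ‹Algebra ℤ R› = Ring.toIntAlgebra R := Subsingleton.elim _ _
  obtain ⟨a, ha⟩ := exists_eq_map_univ s rfl
  have hgen : aeval (es (gen s.card ℤ)) (adU j r d) = adF j r d (gen s.card ℤ) := by
    convert (exists_adU j r d).choose_spec.2 _ (gen s.card ℤ) using 1
    simp only [adU]
    congr!
  rw [aeval_es_eq_gen s a ha, hgen]
  refine (map_adF (aeval a : MvPolynomial (Fin s.card) ℤ →ₐ[ℤ] R).toRingHom j r d _).trans ?_
  congr 1
  conv_rhs => rw [ha]
  rw [gen, Multiset.map_map]
  exact Multiset.map_congr rfl fun i _ => aeval_X a i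

/-- the series `Σ_d adU j r d` evaluated -/
def adPoly (j r : ℕ) : MvPolynomial ℕ ℤ := ∑ d ∈ range (j * r + 1), adU j r d

lemma adPoly_spec (j r : ℕ) {R : Type*} [CommRing R] [Algebra ℤ R] (s : Multiset R) :
    aeval (es s) (adPoly j r) = (s.map fun a => (1 + a) ^ j - 1).esymm r := by
  rw [adPoly, map_sum, sum_congr rfl fun d _ => adU_spec j r d s]
  have hdeg : ((s.map fun a => (1 + Polynomial.C a * Polynomial.X) ^ j - 1).esymm r).natDegree < j * r + 1 := by
    refine Nat.lt_succ_of_le ?_
    rw [Multiset.esymm]
    refine (Polynomial.natDegree_multiset_sum_le _).trans ?_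
    refine Multiset.max_le_of_forall_le _ _ fun x hx => ?_
    obtain ⟨p, hp, rfl⟩ := Multiset.mem_map.1 hx
    obtain ⟨t, ht, rfl⟩ := Multiset.mem_map.1 hp
    refine (Polynomial.natDegree_multiset_prod_le t).trans ((Multiset.sum_le_card_nsmul _ j fun y hy => ?_).trans ?_)
    · obtain ⟨z, hz, rfl⟩ := Multiset.mem_map.1 hy
      obtain ⟨a, -, rfl⟩ := Multiset.mem_map.1 (Multiset.mem_of_le (Multiset.mem_powersetCard.1 ht).1 hz)
      refine (Polynomial.natDegree_sub_le _ _).trans (max_le ?_ (by simp))
      refine (Polynomial.natDegree_pow_le_of_le j (m := 1) ?_).trans (mul_one j).le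
      exact (Polynomial.natDegree_add_le _ _).trans (max_le (by simp) (Polynomial.natDegree_C_mul_le _ _ |>.trans Polynomial.natDegree_X_le))
    · rw [Multiset.card_map, (Multiset.mem_powersetCard.1 ht).2, smul_eq_mul, mul_comm]
  refine Eq.trans ?_ ((Polynomial.eval_eq_sum_range' hdeg (1 : R)).symm.trans ?_)
  · simp [adF]
  · rw [← Polynomial.coe_evalRingHom, map_esymm, Multiset.map_map]
    congr 1
    exact Multiset.map_congr rfl fun a _ => by simp

lemma adU_eq_zero {j r d : ℕ} (hd : d < r) : adU j r d = 0 := by
  refine eq_of_forall fun R _ _ s => ?_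
  rw [adU_spec, map_zero, adF]
  refine Polynomial.X_pow_dvd_iff.1 ?_ d hd
  rw [Multiset.esymm]
  refine Multiset.dvd_sum fun x hx => ?_
  obtain ⟨t, ht, rfl⟩ := Multiset.mem_map.1 hx
  rw [← (Multiset.mem_powersetCard.1 ht).2, ← Multiset.prod_replicate,
    show Multiset.replicate t.card (Polynomial.X : Polynomial R) = t.map (fun _ => Polynomial.X) from (Multiset.map_const' t _).symm]
  conv_rhs => rw [← Multiset.map_id' t]
  refine Multiset.prod_dvd_prod_of_dvd _ _ fun y hy => ?_
  obtain ⟨a, -, rfl⟩ := Multiset.mem_map.1 (Multiset.mem_of_le (Multiset.mem_powersetCard.1 ht).1 hy)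
  rw [Polynomial.X_dvd_iff]
  simp [Polynomial.coeff_zero_eq_eval_zero]

lemma adU_self (j r : ℕ) : adU j (r + 1) (r + 1) = (j : MvPolynomial ℕ ℤ) ^ (r + 1) * X r := by
  refine eq_of_forall fun R _ _ s => ?_
  rw [adU_spec, map_mul, map_pow, map_natCast, aeval_X, adF, es]
  have key : ∀ a : R, ∃ b : Polynomial R,
      (1 + Polynomial.C a * Polynomial.X) ^ j - 1 = Polynomial.X * (Polynomial.C (j * a) + Polynomial.X * b) := by
    intro a
    induction j with
    | zero => exact ⟨0, by simp⟩
    | succ j ih =>
      obtain ⟨b, hb⟩ := ih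
      refine ⟨b + Polynomial.C a * (Polynomial.C (j * a) + Polynomial.X * b), ?_⟩
      rw [sub_eq_iff_eq_add] at hb
      rw [pow_succ, hb]
      simp only [Nat.cast_succ, add_mul, one_mul, map_add, map_mul, map_one]
      ring
  choose b hb using key
  rw [show (s.map fun a => (1 + Polynomial.C a * Polynomial.X) ^ j - 1) =
      s.map (fun a : R => (Polynomial.X : Polynomial R) • (Polynomial.C ((j : R) * a) + Polynomial.X * b a)) from
      Multiset.map_congr rfl fun a _ => by rw [hb a, smul_eq_mul],
    show s.map (fun a : R => (Polynomial.X : Polynomial R) • (Polynomial.C ((j : R) * a) + Polynomial.X * b a)) =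
      (s.map fun a => Polynomial.C ((j : R) * a) + Polynomial.X * b a).map (Polynomial.X • ·) by rw [Multiset.map_map]; rfl,
    ← Multiset.pow_smul_esymm, smul_eq_mul, Polynomial.coeff_X_pow_mul', if_pos le_rfl, Nat.sub_self,
    ← Polynomial.constantCoeff_apply, map_esymm, Multiset.map_map]
  rw [show (Polynomial.constantCoeff ∘ fun a => Polynomial.C ((j : R) * a) + Polynomial.X * b a) = fun a => (j : R) • a from
    funext fun a => by simp, ← smul_eq_mul, Multiset.pow_smul_esymm]

end Groth.Agent.LamR
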