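import Groth.Agent.LamR.Univ

/-!
# Special λ-rings and Adams operations
-/

open Finset MvPolynomial

noncomputable section

namespace Groth.Agent.LamR

open LambdaRing

variable {K : Type*} [CommRing K] [LambdaOps K]

attribute [local irreducible] adamsOp psum newtU

/-- a ring endomorphism from its properties -/
def mkRH (f : K → K) (h1 : f 1 = 1) (hm : ∀ x y, f (x * y) = f x * f y) (ha : ∀ x y, f (x + y) = f x + f y) :
    K →+* K := RingHom.mk' ⟨⟨f, h1⟩, hm⟩ ha

@[simp] lemma mkRH_apply (f : K → K) (h1 hm ha) (x : K) : mkRH f h1 hm ha x = f x := rfl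

/-- the values `λ^{i+1} x` -/
def lamv (x : K) (i : ℕ) : K := LambdaOps.lam (i + 1) x

lemma lamSeries_eq_cser' (x : K) : lamSeries x = cser (lamv x) := lamSeries_eq_cser x

lemma adamsOp_eq_newtU [Algebra ℤ K] (k : ℕ) (x : K) : adamsOp k x = aeval (lamv x) (newtU k) := by
  rw [aeval_newtU, adamsOp_eq_psum, lamSeries_eq_cser']

section Of

variable (hK : IsSpecial K)
include hK

lemma lam_mul_eq (n : ℕ) (x y : K) :
    LambdaOps.lam n (x * y) = aeval (Sum.elim (lamv x) (lamv y)) (mulU n) := by
  rw [hK.lam_mul n _ (isMulPoly_kill2 n) x y]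
  conv_rhs => rw [← rename_kill2 (N := n) (p := mulU n) fun i hi => vars_lt_of_weighted2 (isWeightedHomogeneous_mulU n) hi,
    aeval_rename]
  congr 2
  funext i
  rcases i with i | i <;> rfl

lemma lam_lam_eq (i j : ℕ) (x : K) : LambdaOps.lam j (LambdaOps.lam i x) = aeval (lamv x) (compU i j) := by
  rw [hK.lam_lam i j _ (isCompPoly_kill i j) x]
  conv_rhs => rw [← rename_kill (N := i * j) (p := compU i j) fun k hk => vars_lt_of_weighted (isWeightedHomogeneous_compU i j) hk,
    aeval_rename]
  rfl

lemma adamsOp_mul (k : ℕ) (x y : K) : adamsOp k (x * y) = adamsOp k x * adamsOp k y := by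
  cases k with
  | zero => simp [adamsOp]
  | succ k =>
    rw [adamsOp_eq_newtU, adamsOp_eq_newtU, adamsOp_eq_newtU,
      show lamv (x * y) = fun i => aeval (Sum.elim (lamv x) (lamv y)) (mulU (i + 1)) from funext fun i => lam_mul_eq hK _ x y,
      ← aeval_bind₁, newt_mul, map_mul, aeval_rename, aeval_rename, Sum.elim_comp_inl, Sum.elim_comp_inr]

lemma adamsOp_lam (i k : ℕ) (x : K) : adamsOp (k + 1) (LambdaOps.lam i x) = aeval (lamv x) (powU i k) := by
  rw [adamsOp_eq_newtU,
    show lamv (LambdaOps.lam i x) = fun j => aeval (lamv x) (compU i (j + 1)) from funext fun j => lam_lam_eq hK i _ x,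
    ← aeval_bind₁, newt_comp]

/-- ψ^{k+1} as a ring endomorphism of a special λ-ring -/
def adamsRingHom (k : ℕ) : K →+* K :=
  mkRH (adamsOp (k + 1)) (by rw [adamsOp_thin hK.lam_one_eq_zero _ (by omega), one_pow])
    (adamsOp_mul hK (k + 1)) (adamsOp_add (k + 1))

lemma adamsRingHom_apply (k : ℕ) (x : K) : adamsRingHom hK k x = adamsOp (k + 1) x := rfl

lemma adamsOp_adamsOp (k l : ℕ) (x : K) :
    adamsOp (k + 1) (adamsOp (l + 1) x) = adamsOp ((k + 1) * (l + 1)) x := by
  conv_lhs => rw [adamsOp_eq_newtU (l + 1) x]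
  show (adamsRingHom hK k).toIntAlgHom (aeval (lamv x) (newtU (l + 1))) = _
  rw [← AlgHom.comp_apply, comp_aeval,
    show (fun i => (adamsRingHom hK k).toIntAlgHom (lamv x i)) = fun i => aeval (lamv x) (powU (i + 1) k) from
      funext fun i => adamsOp_lam hK (i + 1) k x,
    ← aeval_bind₁, newt_pow, ← adamsOp_eq_newtU]

end Of

/-- A λ-structure on a ℤ-torsion-free ring whose Adams operations behave as ring endomorphisms
composing multiplicatively is special. -/
theorem isSpecial_of_adamsOp
    (htf : ∀ (n : ℕ) (a b : K), a * ((n : K) + 1) = b * ((n : K) + 1) → a = b)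
    (h1 : ∀ k : ℕ, 1 ≤ k → adamsOp k (1 : K) = 1)
    (hmul : ∀ k : ℕ, 1 ≤ k → ∀ x y : K, adamsOp k (x * y) = adamsOp k x * adamsOp k y)
    (hcomp : ∀ k k' : ℕ, 1 ≤ k → 1 ≤ k' → ∀ x : K, adamsOp k (adamsOp k' x) = adamsOp (k * k') x) :
    IsSpecial K := by
  let ψ : ℕ → K →+* K := fun k =>
    mkRH (adamsOp (k + 1)) (h1 (k + 1) (by omega)) (hmul (k + 1) (by omega)) (adamsOp_add (k + 1))
  have hcser : ∀ (c : ℕ → K) (d : ℕ → K), (∀ k, psum (cser c) (k + 1) = psum (cser d) (k + 1)) → c = d :=
    fun c d h => by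
      have := eq_of_psum htf (constantCoeff_cser c) (constantCoeff_cser d) h
      funext i
      simpa using congrArg (PowerSeries.coeff (i + 1)) this
  have hψlam : ∀ (k i : ℕ) (x : K), ψ k (LambdaOps.lam i x) = aeval (lamv x) (powU i k) := by
    intro k i x
    cases i with
    | zero => rw [LambdaOps.lam_zero, powU_zero, map_one, map_one]
    | succ i =>
      refine congrFun (hcser (fun i => ψ k (lamv x i)) (fun i => aeval (lamv x) (powU (i + 1) k)) fun l => ?_) i
      rw [← map_cser, ← map_psum _ (constantCoeff_cser _), ← lamSeries_eq_cser', ← adamsOp_eq_psum,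
        ← aeval_newtU, ← aeval_bind₁, newt_pow, ← adamsOp_eq_newtU]
      exact (mkRH_apply _ _ _ _ _).trans (hcomp (k + 1) (l + 1) (by omega) (by omega) x)
  constructor
  · intro n hn
    obtain ⟨n, rfl⟩ : ∃ m, n = m + 2 := ⟨n - 2, by omega⟩
    have h : lamv (1 : K) = es ({1} : Multiset K) := by
      refine hcser _ _ fun k => ?_
      rw [← lamSeries_eq_cser', ← adamsOp_eq_psum, h1 (k + 1) (by omega), ← genSer_eq_cser, psum_genSer]
      simp
    have := congrFun h (n + 1)
    rwa [lamv, es, esymm_eq_zero_of_card_lt (by simp)] at this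
  · intro n P hP x y
    rw [eq_kill2_of_isMulPoly hP]
    have key : LambdaOps.lam n (x * y) = aeval (Sum.elim (lamv x) (lamv y)) (mulU n) := by
      cases n with
      | zero => rw [LambdaOps.lam_zero, mulU_zero, map_one]
      | succ n =>
        refine congrFun (hcser (lamv (x * y)) (fun i => aeval (Sum.elim (lamv x) (lamv y)) (mulU (i + 1))) fun k => ?_) n
        rw [← lamSeries_eq_cser', ← adamsOp_eq_psum, hmul (k + 1) (by omega), ← aeval_newtU, ← aeval_bind₁, newt_mul,
          map_mul, aeval_rename, aeval_rename, Sum.elim_comp_inl, Sum.elim_comp_inr, ← adamsOp_eq_newtU, ← adamsOp_eq_newtU]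
    rw [key]
    conv_lhs => rw [← rename_kill2 (N := n) (p := mulU n) fun i hi => vars_lt_of_weighted2 (isWeightedHomogeneous_mulU n) hi,
      aeval_rename]
    congr 2
    funext i
    rcases i with i | i <;> rfl
  · intro i j Q hQ x
    rw [eq_kill_of_isCompPoly hQ]
    have key : LambdaOps.lam j (LambdaOps.lam i x) = aeval (lamv x) (compU i j) := by
      cases j with
      | zero => rw [LambdaOps.lam_zero, compU_zero, map_one]
      | succ j =>
        refine congrFun (hcser (lamv (LambdaOps.lam i x)) (fun j => aeval (lamv x) (compU i (j + 1))) fun k => ?_) j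
        rw [← lamSeries_eq_cser', ← adamsOp_eq_psum, ← aeval_newtU, ← aeval_bind₁, newt_comp]
        exact hψlam k i x
    rw [key]
    conv_lhs => rw [← rename_kill (N := i * j) (p := compU i j) fun k hk => vars_lt_of_weighted (isWeightedHomogeneous_compU i j) hk,
      aeval_rename]
    rfl

end Groth.Agent.LamR
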