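import Groth.Agent.LamR.Rat
import Groth.Agent.LamR.Special
import Groth.Agent.LamR.AdU

/-!
# The free special λ-ring in γ-coordinates, rational model

For a ℚ-algebra `R` the polynomial ring `R[g_{l,i}]` with Adams operations
`ψ^k g_{l,i} = e_{i+1}((1+y)^k - 1)` is a special λ-ring with `γ^{i+1}(g_{l,0}) = g_{l,i}`,
filtered by weight, and `γ^m` acts on weight `≥ m` as `(-1)^(m-1) (m-1)!` modulo higher weight.
-/

open Finset MvPolynomial

noncomputable section

namespace Groth.Agent.LamR

open LambdaRing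

section Univ

/-- the series `t/(1+t)` -/
def hs (S : Type*) [CommRing S] : PowerSeries S :=
  PowerSeries.X * (1 + PowerSeries.X : PowerSeries S).invOfUnit 1

lemma constantCoeff_hs (S : Type*) [CommRing S] : PowerSeries.constantCoeff (hs S) = 0 := by simp [hs]

lemma hasSubst_hs (S : Type*) [CommRing S] : PowerSeries.HasSubst (hs S) :=
  PowerSeries.HasSubst.of_constantCoeff_zero' (constantCoeff_hs S)

lemma hs_mul (S : Type*) [CommRing S] : hs S * (1 + PowerSeries.X) = PowerSeries.X := by
  rw [hs, mul_assoc, mul_comm _ (1 + PowerSeries.X), PowerSeries.mul_invOfUnit _ 1 (by simp), mul_one]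

lemma one_add_gs (S : Type*) [CommRing S] : (1 - PowerSeries.X) * (1 + gs S) = 1 := by
  have h : (1 - PowerSeries.X : PowerSeries S) * (PowerSeries.invOneSubPow S 1 : PowerSeries S) = 1 := by
    have := (PowerSeries.invOneSubPow S 1).inv_val
    rwa [PowerSeries.invOneSubPow_inv_eq_one_sub_pow, pow_one] at this
  rw [gs]
  linear_combination PowerSeries.X * h

lemma subst_gs_hs (S : Type*) [CommRing S] : PowerSeries.subst (gs S) (hs S) = PowerSeries.X := by
  have h := congrArg (PowerSeries.subst (gs S)) (hs_mul S)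
  rw [PowerSeries.subst_mul (hasSubst_gs S), PowerSeries.subst_add (hasSubst_gs S), PowerSeries.subst_X (hasSubst_gs S),
    ← PowerSeries.coe_substAlgHom (hasSubst_gs S), map_one] at h
  have hu : IsUnit (1 + gs S) := IsUnit.of_mul_eq_one _ ((mul_comm _ _).trans (one_add_gs S))
  apply hu.mul_right_cancel
  rw [PowerSeries.coe_substAlgHom] at h
  rw [h, gs]
  have h3 : (1 - PowerSeries.X : PowerSeries S) * (PowerSeries.invOneSubPow S 1 : PowerSeries S) = 1 := by
    have := (PowerSeries.invOneSubPow S 1).inv_val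
    rwa [PowerSeries.invOneSubPow_inv_eq_one_sub_pow, pow_one] at this
  linear_combination PowerSeries.X * h3

lemma subst_hs_gs (S : Type*) [CommRing S] : PowerSeries.subst (hs S) (gs S) = PowerSeries.X := by
  have h1 : (1 - PowerSeries.X) * gs S = PowerSeries.X := by
    have := one_add_gs S
    linear_combination this
  have h := congrArg (PowerSeries.subst (hs S)) h1
  rw [PowerSeries.subst_mul (hasSubst_hs S), PowerSeries.subst_sub (hasSubst_hs S), PowerSeries.subst_X (hasSubst_hs S),
    ← PowerSeries.coe_substAlgHom (hasSubst_hs S), map_one] at h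
  rw [PowerSeries.coe_substAlgHom] at h
  have h2 := hs_mul S
  linear_combination (1 + PowerSeries.X) * h + (PowerSeries.subst (hs S) (gs S) + 1) * h2

lemma map_hs {S T : Type*} [CommRing S] [CommRing T] (f : S →+* T) : PowerSeries.map f (hs S) = hs T := by
  rw [hs, hs, map_mul, PowerSeries.map_X]
  congr 1
  refine (invOfUnit_unique (by simp) ?_).symm
  rw [show (1 + PowerSeries.X : PowerSeries T) = PowerSeries.map f (1 + PowerSeries.X) by simp, ← map_mul,
    PowerSeries.mul_invOfUnit _ 1 (by simp), map_one]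

lemma map_subst_hs {S T : Type*} [CommRing S] [CommRing T] (f : S →+* T) (c : PowerSeries S) :
    PowerSeries.map f (PowerSeries.subst (hs S) c) = PowerSeries.subst (hs T) (PowerSeries.map f c) := by
  ext n
  rw [PowerSeries.coeff_map, PowerSeries.coeff_subst' (hasSubst_hs S), PowerSeries.coeff_subst' (hasSubst_hs T),
    finsum_eq_sum_of_support_subset _ (s := range (n + 1)) ?_, finsum_eq_sum_of_support_subset _ (s := range (n + 1)) ?_,
    map_sum]
  · refine sum_congr rfl fun d _ => ?_
    rw [smul_eq_mul, smul_eq_mul, map_mul, ← PowerSeries.coeff_map, ← PowerSeries.coeff_map, map_pow, map_hs]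
  all_goals
    intro d hd
    rw [Function.mem_support] at hd
    simp only [coe_range, Set.mem_Iio]
    by_contra h
    apply hd
    rw [hs, mul_pow, PowerSeries.coeff_X_pow_mul', if_neg (by omega), smul_zero]

lemma psum_mul {S : Type*} [CommRing S] {f g : PowerSeries S} (hf : PowerSeries.constantCoeff f = 1)
    (hg : PowerSeries.constantCoeff g = 1) (k : ℕ) : psum (f * g) k = psum f k + psum g k := by
  cases k with
  | zero => simp [psum]
  | succ k =>
    have hfi := PowerSeries.mul_invOfUnit f 1 (by simpa using hf)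
    have hgi := PowerSeries.mul_invOfUnit g 1 (by simpa using hg)
    have hinv : (f * g).invOfUnit 1 = f.invOfUnit 1 * g.invOfUnit 1 := invOfUnit_unique (by simp [hf, hg]) (by
      linear_combination (g * g.invOfUnit 1) * hfi + hgi)
    rw [psum, psum, psum, ← mul_add, ← map_add, Derivation.leibniz, hinv, smul_eq_mul, smul_eq_mul]
    congr 2
    linear_combination (PowerSeries.derivative S g * g.invOfUnit 1) * hfi + (PowerSeries.derivative S f * f.invOfUnit 1) * hgi

lemma psum_pow {S : Type*} [CommRing S] {f : PowerSeries S} (hf : PowerSeries.constantCoeff f = 1) (k n : ℕ) :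
    psum (f ^ n) (k + 1) = n * psum f (k + 1) := by
  induction n with
  | zero =>
    rw [pow_zero, Nat.cast_zero, zero_mul, psum, Derivation.map_one_eq_zero]; simp
  | succ n ih => rw [pow_succ, psum_mul (by simp [hf]) hf, ih, Nat.cast_succ, add_mul, one_mul]

lemma genSer_map_one_add {S : Type*} [CommRing S] (s : Multiset S) :
    (1 + PowerSeries.X) ^ s.card * PowerSeries.subst (hs S) (genSer s) = genSer (s.map (1 + ·)) := by
  induction s using Multiset.induction_on with
  | empty => simp [genSer, ← PowerSeries.coe_substAlgHom (hasSubst_hs S)]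
  | cons a s ih =>
    have e : ∀ t : Multiset S, ∀ b, genSer (b ::ₘ t) = (1 + PowerSeries.C b * PowerSeries.X) * genSer t := fun t b => by
      simp [genSer]
    rw [Multiset.map_cons, e, e, ← ih, Multiset.card_cons, pow_succ, PowerSeries.subst_mul (hasSubst_hs S),
      PowerSeries.subst_add (hasSubst_hs S), PowerSeries.subst_mul (hasSubst_hs S), PowerSeries.subst_X (hasSubst_hs S),
      ← PowerSeries.coe_substAlgHom (hasSubst_hs S), map_one,
      show PowerSeries.substAlgHom (hasSubst_hs S) (PowerSeries.C a) = PowerSeries.C a from AlgHom.commutes _ a]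
    rw [map_add, map_one]
    have h := hs_mul S
    linear_combination (PowerSeries.C a * (1 + PowerSeries.X) ^ s.card * PowerSeries.substAlgHom (hasSubst_hs S) (genSer s)) * h

lemma psum_subst_hs_cser (k : ℕ) :
    psum (PowerSeries.subst (hs (MvPolynomial ℕ ℤ)) (cser (X : ℕ → MvPolynomial ℕ ℤ))) (k + 1) = adPoly (k + 1) 1 := by
  refine eq_of_forall fun R _ _ s => ?_
  have hc : ∀ {S : Type} [CommRing S] (c : ℕ → S),
      PowerSeries.constantCoeff (PowerSeries.subst (hs S) (cser c)) = 1 := fun {S} _ c => by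
    rw [← PowerSeries.coeff_zero_eq_constantCoeff_apply, PowerSeries.coeff_subst' (hasSubst_hs S),
      finsum_eq_single _ 0 (fun d hd => by
        rw [hs, mul_pow, PowerSeries.coeff_X_pow_mul', if_neg (by omega), smul_zero])]
    simp [cser]
  show (aeval (es s)).toRingHom _ = _
  rw [map_psum _ (hc _), map_subst_hs, map_cser, show (fun i => (aeval (es s)).toRingHom (X i)) = es s from
      funext fun i => aeval_X _ i, adPoly_spec, ← genSer_eq_cser]
  have h1 : PowerSeries.constantCoeff (1 + PowerSeries.X : PowerSeries R) = 1 := by simp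
  have h2 : psum (1 + PowerSeries.X : PowerSeries R) (k + 1) = 1 := by
    rw [show (1 + PowerSeries.X : PowerSeries R) = genSer {1} by simp [genSer], psum_genSer]; simp
  have h := congrArg (fun f => psum f (k + 1)) (genSer_map_one_add s)
  rw [psum_mul (by simp) (by rw [genSer_eq_cser]; exact hc _), psum_pow h1, h2, psum_genSer, mul_one,
    Multiset.map_map] at h
  rw [Multiset.esymm, Multiset.powersetCard_one, Multiset.map_map, Multiset.map_map]
  simp only [Function.comp_def, Multiset.prod_singleton] at h ⊢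
  rw [Multiset.sum_map_sub, Multiset.map_const', Multiset.sum_replicate, nsmul_one, ← h]
  ring

lemma adPoly_comp (k l r : ℕ) : bind₁ (fun i => adPoly k (i + 1)) (adPoly l r) = adPoly (k * l) r := by
  refine eq_of_forall fun R _ _ s => ?_
  rw [aeval_bind₁, show (fun i => aeval (es s) (adPoly k (i + 1))) = es (s.map fun a => (1 + a) ^ k - 1) from
    funext fun i => adPoly_spec k (i + 1) s, adPoly_spec, adPoly_spec, Multiset.map_map]
  congr 1
  refine Multiset.map_congr rfl fun a _ => ?_
  rw [Function.comp_apply, add_sub_cancel, ← pow_mul]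

lemma adPoly_one (r : ℕ) : adPoly 1 (r + 1) = X r := by
  refine eq_of_forall fun R _ _ s => ?_
  rw [adPoly_spec, aeval_X]
  simp [es]

lemma kill_adPoly (k : ℕ) {r : ℕ} {p : MvPolynomial ℕ ℤ} (hp : p = adPoly k (r + 1)) : kill r p = 0 := by
  subst hp
  apply esymmAlgHom_injective ℤ (σ := Fin r) (by simp)
  apply Subtype.ext
  rw [map_zero, esymmAlgHom_apply, kill, ← AlgHom.comp_apply, comp_aeval]
  show _ = (0 : MvPolynomial (Fin r) ℤ)
  rw [show (fun i : ℕ => aeval (fun i : Fin r => esymm (Fin r) ℤ ((i : ℕ) + 1)) (if h : i < r then X ⟨i, h⟩ else 0)) =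
      es (gen r ℤ) from funext fun i => by
    split_ifs with h
    · rw [aeval_X, es_gen]
    · rw [map_zero, es, esymm_eq_zero_of_card_lt (by simp [gen]; omega)],
    adPoly_spec, esymm_eq_zero_of_card_lt (by simp [gen])]

lemma aeval_trunc_eq_zero {T : Type*} [CommRing T] [Algebra ℤ T] {i : ℕ} {p : MvPolynomial ℕ ℤ} (hp : kill i p = 0)
    (f : ℕ → T) : aeval (fun j => if j < i then f j else 0) p = 0 := by
  have e : (fun j => if j < i then f j else 0) =
      fun j => aeval (fun q : Fin i => f q) (if h : j < i then (X ⟨j, h⟩ : MvPolynomial (Fin i) ℤ) else 0) :=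
    funext fun j => by by_cases h : j < i <;> simp [h]
  rw [e, ← comp_aeval, AlgHom.comp_apply]
  show aeval _ (kill i p) = 0
  rw [hp, map_zero]

end Univ

/-- the rational free special λ-ring -/
abbrev GQ (R : Type*) [CommRing R] (ι : Type*) := MvPolynomial (ι × ℕ) R

variable {R : Type*} [CommRing R] [Algebra ℚ R] {ι : Type*}

/-- values on the variables of one generator -/
def grp (l : ι) (i : ℕ) : GQ R ι := X (l, i)

/-- Adams operations of the model -/
def psiG (k : ℕ) : GQ R ι →ₐ[R] GQ R ι :=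
  aeval fun p : ι × ℕ => aeval (grp p.1) (adPoly k (p.2 + 1))

lemma psiG_one : (psiG 1 : GQ R ι →ₐ[R] GQ R ι) = AlgHom.id R _ := by
  ext p
  simp [psiG, adPoly_one, grp]

lemma psiG_comp (k k' : ℕ) (a : GQ R ι) : psiG k (psiG k' a) = psiG (k * k') a := by
  rw [← AlgHom.comp_apply]
  refine AlgHom.congr_fun ?_ a
  refine MvPolynomial.algHom_ext fun p => ?_
  simp only [AlgHom.comp_apply, psiG, aeval_X]
  rw [← adPoly_comp, aeval_bind₁]
  rw [show (fun i => aeval (grp p.1 : ℕ → GQ R ι) (adPoly k (i + 1))) =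
    fun i => aeval (fun p : ι × ℕ => aeval (grp p.1) (adPoly k (p.2 + 1)) : ι × ℕ → GQ R ι) (grp p.1 i : GQ R ι) from
      funext fun i => by simp [grp]]
  show ((aeval _ : GQ R ι →ₐ[R] GQ R ι).toRingHom.toIntAlgHom.comp (aeval (grp p.1))) (adPoly k' (p.2 + 1)) = _
  rw [comp_aeval]
  rfl

/-- ψ as additive maps -/
def psiAdd (k : ℕ) : GQ R ι →+ GQ R ι := (psiG k : GQ R ι →ₐ[R] GQ R ι).toRingHom.toAddMonoidHom

lemma psiAdd_one : (psiAdd 1 : GQ R ι →+ GQ R ι) = AddMonoidHom.id _ := by
  ext a; simp [psiAdd, psiG_one]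

/-- the λ-structure of the model -/
@[reducible] def lamG : LambdaOps (GQ R ι) := opsOfAdams psiAdd psiAdd_one

attribute [local instance] lamG

lemma adamsOp_G {k : ℕ} (hk : 1 ≤ k) (a : GQ R ι) : adamsOp k a = psiG k a :=
  adamsOp_opsOfAdams psiAdd psiAdd_one k hk a

lemma htfG (n : ℕ) (a b : GQ R ι) (h : a * ((n : GQ R ι) + 1) = b * ((n : GQ R ι) + 1)) : a = b :=
  (isUnit_succ n).mul_right_cancel h

lemma isSpecial_G : IsSpecial (GQ R ι) := by
  refine isSpecial_of_adamsOp htfG (fun k hk => ?_) (fun k hk x y => ?_) fun k k' hk hk' x => ?_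
  · rw [adamsOp_G hk, map_one]
  · rw [adamsOp_G hk, adamsOp_G hk, adamsOp_G hk, map_mul]
  · rw [adamsOp_G hk', adamsOp_G hk, adamsOp_G (Nat.mul_pos hk hk'), psiG_comp]

lemma lamSeries_grp (l : ι) : lamSeries (grp l 0 : GQ R ι) = PowerSeries.subst (hs (GQ R ι)) (cser (grp l : ℕ → GQ R ι)) := by
  have hc : PowerSeries.constantCoeff (PowerSeries.subst (hs (GQ R ι)) (cser (grp l : ℕ → GQ R ι))) = 1 := by
    rw [← PowerSeries.coeff_zero_eq_constantCoeff_apply, PowerSeries.coeff_subst' (hasSubst_hs _),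
      finsum_eq_single _ 0 (fun d hd => by
        rw [hs, mul_pow, PowerSeries.coeff_X_pow_mul', if_neg (by omega), smul_zero])]
    simp [cser]
  refine eq_of_psum htfG (constantCoeff_lamSeries _) hc fun k => ?_
  rw [← adamsOp_eq_psum, adamsOp_G (by omega), grp, psiG, aeval_X, ← psum_subst_hs_cser]
  have hc' : PowerSeries.constantCoeff (PowerSeries.subst (hs (MvPolynomial ℕ ℤ)) (cser (X : ℕ → MvPolynomial ℕ ℤ))) = 1 := by
    rw [← PowerSeries.coeff_zero_eq_constantCoeff_apply, PowerSeries.coeff_subst' (hasSubst_hs _),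
      finsum_eq_single _ 0 (fun d hd => by
        rw [hs, mul_pow, PowerSeries.coeff_X_pow_mul', if_neg (by omega), smul_zero])]
    simp [cser]
  show (aeval (grp l : ℕ → GQ R ι)).toRingHom _ = _
  rw [map_psum _ hc', map_subst_hs, map_cser]
  congr 3
  funext i
  exact aeval_X _ i

lemma subst_gs_subst_hs {S : Type*} [CommRing S] (f : PowerSeries S) :
    PowerSeries.subst (gs S) (PowerSeries.subst (hs S) f) = f := by
  rw [PowerSeries.subst_comp_subst_apply (hasSubst_hs S) (hasSubst_gs S), subst_gs_hs, PowerSeries.X_subst]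

lemma gamma_grp (l : ι) (i : ℕ) : gamma (i + 1) (grp l 0 : GQ R ι) = grp l i := by
  have := congrArg (PowerSeries.coeff (i + 1)) (mk_gamma_eq_subst (grp l 0 : GQ R ι))
  rwa [PowerSeries.coeff_mk, lamSeries_grp, subst_gs_subst_hs, coeff_succ_cser] at this

/-- weight of the variables -/
def wG : ι × ℕ → ℕ := fun p => p.2 + 1

/-- polynomials of weight at least `n` -/
def WG (R : Type*) [CommRing R] (ι : Type*) (n : ℕ) : Ideal (GQ R ι) where
  carrier := {a | ∀ e ∈ a.support, n ≤ Finsupp.weight wG e}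
  add_mem' {a b} ha hb e he := by
    classical
    rcases Finset.mem_union.1 (MvPolynomial.support_add he) with h | h
    exacts [ha e h, hb e h]
  zero_mem' e he := by simp at he
  smul_mem' c a ha e he := by
    classical
    obtain ⟨e₁, _, e₂, h₂, rfl⟩ := Finset.mem_add.1 (MvPolynomial.support_mul c a he)
    rw [map_add]; have := ha e₂ h₂; omega

lemma mem_WG {n : ℕ} {a : GQ R ι} : a ∈ WG R ι n ↔ ∀ e ∈ a.support, n ≤ Finsupp.weight wG e := Iff.rfl

lemma WG_anti {m n : ℕ} (h : m ≤ n) : WG R ι n ≤ WG R ι m := fun a ha e he => h.trans (ha e he)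

lemma mem_WG_zero (a : GQ R ι) : a ∈ WG R ι 0 := fun _ _ => Nat.zero_le _

lemma WG_mul_mem {m n : ℕ} {a b : GQ R ι} (ha : a ∈ WG R ι m) (hb : b ∈ WG R ι n) : a * b ∈ WG R ι (m + n) := by
  classical
  intro e he
  obtain ⟨e₁, h₁, e₂, h₂, rfl⟩ := Finset.mem_add.1 (MvPolynomial.support_mul a b he)
  rw [map_add]; exact add_le_add (ha e₁ h₁) (hb e₂ h₂)

lemma grp_mem (l : ι) (i : ℕ) : (grp l i : GQ R ι) ∈ WG R ι (i + 1) := by
  classical
  intro e he
  rw [Finset.mem_singleton.1 (MvPolynomial.support_monomial_subset he), Finsupp.weight_single, one_smul]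
  rfl

lemma homogeneous_mem {a : GQ R ι} {n d : ℕ} (ha : IsWeightedHomogeneous wG a d) (h : n ≤ d) : a ∈ WG R ι n :=
  fun e he => (ha (mem_support_iff.1 he)).ge.trans' h

/-- `ψ^k ≡ k^n` on weight `≥ n`, modulo weight `≥ n+1` -/
theorem psiG_sub_mem (k : ℕ) {n : ℕ} {a : GQ R ι} (ha : a ∈ WG R ι n) :
    psiG k a - (k : GQ R ι) ^ n * a ∈ WG R ι (n + 1) := by
  classical
  let OK : ℕ → GQ R ι → Prop := fun n a => a ∈ WG R ι n ∧ psiG k a - (k : GQ R ι) ^ n * a ∈ WG R ι (n + 1)
  have hmul : ∀ {m n a b}, OK m a → OK n b → OK (m + n) (a * b) := fun {m n a b} ha hb => by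
    refine ⟨WG_mul_mem ha.1 hb.1, ?_⟩
    have hb' : psiG k b ∈ WG R ι n := by
      have := add_mem (WG_anti (Nat.le_succ n) hb.2) ((WG R ι n).mul_mem_left ((k : GQ R ι) ^ n) hb.1)
      rwa [sub_add_cancel] at this
    rw [map_mul, show psiG k a * psiG k b - (k : GQ R ι) ^ (m + n) * (a * b) =
      (psiG k a - (k : GQ R ι) ^ m * a) * psiG k b + (k : GQ R ι) ^ m * (a * (psiG k b - (k : GQ R ι) ^ n * b)) by ring]
    refine add_mem ?_ (Ideal.mul_mem_left _ _ ?_)
    · have := WG_mul_mem ha.2 hb'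
      rwa [show m + 1 + n = m + n + 1 by omega] at this
    · have := WG_mul_mem ha.1 hb.2
      rwa [← add_assoc] at this
  have hX : ∀ p : ι × ℕ, OK (wG p) (X p) := fun ⟨l, i⟩ => by
    refine ⟨grp_mem l i, ?_⟩
    have e : psiG k (X (l, i) : GQ R ι) - (k : GQ R ι) ^ (i + 1) * X (l, i) =
        ∑ d ∈ range (k * (i + 1) + 1), if d ≤ i + 1 then 0 else aeval (grp l) (adU k (i + 1) d) := by
      rw [psiG, aeval_X, adPoly, map_sum, sub_eq_iff_eq_add]
      rcases Nat.eq_zero_or_pos k with rfl | hk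
      · simp [adU_eq_zero]
      have hmem : i + 1 ∈ range (k * (i + 1) + 1) := by
        rw [mem_range]; exact Nat.lt_succ_of_le (Nat.le_mul_of_pos_left _ hk)
      rw [← Finset.add_sum_erase _ _ hmem, ← Finset.add_sum_erase _ _ hmem, if_pos le_rfl, zero_add,
        add_comm _ (_ * _), adU_self, map_mul, map_pow, map_natCast, aeval_X]
      congr 1
      refine sum_congr rfl fun d hd => ?_
      rw [mem_erase] at hd
      split_ifs with h
      · rw [adU_eq_zero (by omega), map_zero]
      · rfl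
    rw [show wG (l, i) = i + 1 from rfl, e]
    refine sum_mem fun d _ => ?_
    split_ifs with h
    · exact zero_mem _
    · refine homogeneous_mem (d := d) ?_ (by omega)
      have := isWeightedHomogeneous_adU k (i + 1) d
      rw [(adU k (i + 1) d).as_sum, map_sum]
      refine IsWeightedHomogeneous.sum _ _ _ fun e he => ?_
      rw [aeval_monomial, show algebraMap ℤ (GQ R ι) (coeff e (adU k (i + 1) d)) = C ((coeff e (adU k (i + 1) d) : ℤ) : R) by simp,
        ← this (mem_support_iff.1 he), Finsupp.weight_apply, Finsupp.prod, Finsupp.sum]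
      exact (IsWeightedHomogeneous.prod e.support _ _ fun j _ => (isWeightedHomogeneous_X R wG (l, j)).pow (e j)).C_mul _
  rw [a.as_sum, map_sum, mul_sum, ← sum_sub_distrib]
  refine sum_mem fun e he => ?_
  have hone : OK 0 1 := ⟨mem_WG_zero 1, by simp⟩
  have hmon : OK (Finsupp.weight wG e) (monomial e 1) := by
    clear he
    induction e using Finsupp.induction with
    | zero => simpa using hone
    | single_add p m e _ _ ih =>
      rw [monomial_single_add, map_add]
      refine hmul ?_ ih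
      rw [Finsupp.weight_single, smul_eq_mul]
      have hp : ∀ m, OK (m * wG p) (X p ^ m) := fun m => by
        induction m with
        | zero => simpa using hone
        | succ m ihm => rw [pow_succ, add_mul, one_mul]; exact hmul ihm (hX p)
      exact hp m
  rw [← mul_one (coeff e a), ← smul_eq_mul, ← smul_monomial, map_smul, mul_smul_comm, ← smul_sub, Algebra.smul_def]
  refine Ideal.mul_mem_left _ _ ?_
  rcases eq_or_lt_of_le (ha e he) with h | h
  · rw [h]; exact hmon.2
  · refine sub_mem ?_ (Ideal.mul_mem_left _ _ (WG_anti h hmon.1))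
    have := add_mem (WG_anti (show n + 1 ≤ Finsupp.weight wG e + 1 by omega) hmon.2)
      (Ideal.mul_mem_left _ ((k : GQ R ι) ^ Finsupp.weight wG e) (WG_anti h hmon.1))
    rwa [sub_add_cancel] at this

lemma psiG_mem (k : ℕ) {n : ℕ} {a : GQ R ι} (ha : a ∈ WG R ι n) : psiG k a ∈ WG R ι n := by
  have := add_mem (WG_anti (Nat.le_succ n) (psiG_sub_mem k ha)) ((WG R ι n).mul_mem_left ((k : GQ R ι) ^ n) ha)
  rwa [sub_add_cancel] at this

section GammaCalc

/-- `Σ_i (-1)^i f(i+1) t^i` -/
def Fser {S : Type*} [CommRing S] (f : ℕ → S) : PowerSeries S := PowerSeries.mk fun i => (-1) ^ i * f (i + 1)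

/-- the logarithmic derivative of the γ-series, as a function of `k ↦ ψ^k a` -/
def Hser {S : Type*} [CommRing S] (f : ℕ → S) : PowerSeries S :=
  PowerSeries.subst (gs S) (Fser f) * PowerSeries.derivative S (gs S)

lemma derivative_gamma_series (a : GQ R ι) :
    PowerSeries.derivative (GQ R ι) (PowerSeries.mk fun k => gamma k a) =
      Hser (fun k => psiG k a) * PowerSeries.mk fun k => gamma k a := by
  have hl : logDerivSeries a = Fser fun k => psiG k a := by
    ext i
    have := adamsOp_G (Nat.succ_pos i) a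
    rw [adamsOp] at this
    rw [Fser, PowerSeries.coeff_mk, ← this, ← mul_assoc, ← pow_add, Even.neg_one_pow ⟨i, rfl⟩, one_mul]
  rw [mk_gamma_eq_subst, PowerSeries.derivative_subst (hasSubst_gs _), logDerivSeries_spec,
    PowerSeries.subst_mul (hasSubst_gs _), hl, Hser]
  ring

/-- coefficients of `t^n` of `Hser`, as a linear combination of the values -/
def hc (n i : ℕ) (S : Type*) [CommRing S] : S :=
  PowerSeries.coeff n (gs S ^ i * PowerSeries.derivative S (gs S)) * (-1) ^ i

lemma coeff_Hser {S : Type*} [CommRing S] (f : ℕ → S) (n : ℕ) :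
    PowerSeries.coeff n (Hser f) = ∑ i ∈ range (n + 1), hc n i S * f (i + 1) := by
  have key : ∀ p, PowerSeries.coeff p (PowerSeries.subst (gs S) (Fser f)) =
      ∑ i ∈ range (p + 1), (-1) ^ i * f (i + 1) * PowerSeries.coeff p (gs S ^ i) := fun p => by
    rw [PowerSeries.coeff_subst' (hasSubst_gs S), finsum_eq_sum_of_support_subset _ (s := range (p + 1)) (by
      intro d hd
      rw [Function.mem_support] at hd
      simp only [coe_range, Set.mem_Iio]
      by_contra h
      apply hd
      obtain ⟨d, rfl⟩ : ∃ e, d = e + 1 := ⟨d - 1, by omega⟩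
      rw [coeff_gs_pow, if_neg (by omega), smul_zero])]
    simp [Fser]
  have e : PowerSeries.coeff n (Hser f) = PowerSeries.coeff n ((∑ i ∈ range (n + 1),
      PowerSeries.C ((-1) ^ i * f (i + 1)) * gs S ^ i) * PowerSeries.derivative S (gs S)) := by
    rw [Hser, PowerSeries.coeff_mul, PowerSeries.coeff_mul]
    refine sum_congr rfl fun p hp => ?_
    congr 1
    rw [key, map_sum]
    simp only [PowerSeries.coeff_C_mul]
    refine Finset.sum_subset (fun i hi => ?_) fun i hi hi' => ?_
    · have := mem_antidiagonal.1 hp; rw [mem_range] at hi ⊢; omega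
    · rw [mem_range] at hi'
      obtain ⟨d, rfl⟩ : ∃ e, i = e + 1 := ⟨i - 1, by omega⟩
      rw [coeff_gs_pow, if_neg (by omega), mul_zero]
  rw [e, sum_mul, map_sum]
  refine sum_congr rfl fun i _ => ?_
  rw [mul_assoc, PowerSeries.coeff_C_mul, hc]
  ring

lemma Hser_pow_step {S : Type*} [CommRing S] (m : ℕ) :
    Hser (fun k => (k : S) ^ (m + 1)) =
      PowerSeries.derivative S (PowerSeries.X * (1 - PowerSeries.X) * Hser fun k => (k : S) ^ m) := by
  have e : Fser (fun k => (k : S) ^ (m + 1)) = PowerSeries.derivative S (PowerSeries.X * Fser fun k => (k : S) ^ m) := by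
    ext i
    rw [PowerSeries.coeff_derivative, PowerSeries.coeff_succ_X_mul, Fser, Fser, PowerSeries.coeff_mk, PowerSeries.coeff_mk]
    push_cast; ring
  have hg : PowerSeries.X * (1 - PowerSeries.X) * PowerSeries.derivative S (gs S) = gs S := by
    have h1 : (1 - PowerSeries.X) * gs S = PowerSeries.X := by
      have := one_add_gs S
      linear_combination this
    have h2 := congrArg (PowerSeries.derivative S) h1
    rw [Derivation.leibniz, map_sub, Derivation.map_one_eq_zero, PowerSeries.derivative_X, zero_sub, smul_eq_mul, smul_eq_mul] at h2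
    linear_combination PowerSeries.X * h2 - h1
  rw [Hser, e, ← PowerSeries.derivative_subst (hasSubst_gs S), PowerSeries.subst_mul (hasSubst_gs S),
    PowerSeries.subst_X (hasSubst_gs S), Hser]
  conv_lhs => arg 2; arg 1; rw [← hg]
  congr 1
  ring

lemma Hser_one {S : Type*} [CommRing S] : Hser (fun k => (k : S) ^ 1) = 1 := by
  rw [Hser_pow_step 0]
  have e : PowerSeries.X * (1 - PowerSeries.X) * Hser (fun k => (k : S) ^ 0) = PowerSeries.X := by
    have hF : Fser (fun k => (k : S) ^ 0) * (1 + PowerSeries.X) = 1 := by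
      ext i
      rw [mul_add, mul_one, map_add]
      cases i with
      | zero => simp [Fser]
      | succ i => rw [PowerSeries.coeff_succ_mul_X, Fser, PowerSeries.coeff_mk, PowerSeries.coeff_mk,
          PowerSeries.coeff_one, if_neg (Nat.succ_ne_zero i)]; ring
    have h := congrArg (PowerSeries.subst (gs S)) hF
    rw [PowerSeries.subst_mul (hasSubst_gs S), PowerSeries.subst_add (hasSubst_gs S), PowerSeries.subst_X (hasSubst_gs S),
      ← PowerSeries.coe_substAlgHom (hasSubst_gs S), map_one] at h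
    rw [PowerSeries.coe_substAlgHom] at h
    have h1 : (1 - PowerSeries.X) * gs S = PowerSeries.X := by
      have := one_add_gs S
      linear_combination this
    have h2 := congrArg (PowerSeries.derivative S) h1
    rw [Derivation.leibniz, map_sub, Derivation.map_one_eq_zero, PowerSeries.derivative_X, zero_sub, smul_eq_mul, smul_eq_mul] at h2
    rw [Hser]
    linear_combination PowerSeries.X * PowerSeries.subst (gs S) (Fser fun k => (k : S) ^ 0) * h2 + PowerSeries.X * h
  rw [e, PowerSeries.derivative_X]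

lemma coeff_Hser_pow {S : Type*} [CommRing S] (m : ℕ) :
    PowerSeries.coeff m (Hser fun k => (k : S) ^ (m + 1)) = (-1) ^ m * ((m + 1).factorial : S) ∧
      ∀ n, m < n → PowerSeries.coeff n (Hser fun k => (k : S) ^ (m + 1)) = 0 := by
  induction m with
  | zero =>
    rw [Hser_one]
    exact ⟨by simp, fun n hn => by rw [PowerSeries.coeff_one, if_neg (by omega)]⟩
  | succ m ih =>
    obtain ⟨h1, h2⟩ := ih
    have e : ∀ n, PowerSeries.coeff (n + 2) (PowerSeries.X * (1 - PowerSeries.X) * Hser fun k => (k : S) ^ (m + 1)) =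
        PowerSeries.coeff (n + 1) (Hser fun k => (k : S) ^ (m + 1)) - PowerSeries.coeff n (Hser fun k => (k : S) ^ (m + 1)) := fun n => by
      rw [mul_assoc, PowerSeries.coeff_succ_X_mul, sub_mul, one_mul, map_sub, PowerSeries.coeff_succ_X_mul]
    refine ⟨?_, fun n hn => ?_⟩
    · rw [Hser_pow_step, PowerSeries.coeff_derivative, e, h1, h2 _ (Nat.lt_succ_self m)]
      simp only [Nat.factorial_succ]
      push_cast; ring
    · obtain ⟨n, rfl⟩ : ∃ j, n = j + 1 := ⟨n - 1, by omega⟩
      rw [Hser_pow_step, PowerSeries.coeff_derivative, e, h2 _ (by omega), h2 _ (by omega)]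
      ring

end GammaCalc

lemma unit_sub {p m : ℕ} (h : m ≠ p) : IsUnit (((2 : ℕ) : GQ R ι) ^ p - ((2 : ℕ) : GQ R ι) ^ m) := by
  have hne : ((2 : ℕ) : ℚ) ^ p - ((2 : ℕ) : ℚ) ^ m ≠ 0 := sub_ne_zero.2 fun e =>
    h (Nat.pow_right_injective le_rfl (by exact_mod_cast e.symm))
  have := hne.isUnit.map (algebraMap ℚ (GQ R ι))
  rwa [map_sub, map_pow, map_pow, map_natCast] at this

lemma Hser_mem {n : ℕ} : ∀ {m : ℕ} {a : GQ R ι}, 1 ≤ m → a ∈ WG R ι m →
    PowerSeries.coeff n (Hser fun k => psiG k a) ∈ WG R ι (n + 1) := by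
  suffices ∀ d m, n + 1 - m = d → ∀ a : GQ R ι, 1 ≤ m → a ∈ WG R ι m →
      PowerSeries.coeff n (Hser fun k => psiG k a) ∈ WG R ι (n + 1) from fun {m a} hm ha => this _ m rfl a hm ha
  intro d
  induction d with
  | zero =>
    intro m hd a hm ha
    rw [coeff_Hser]
    exact sum_mem fun i _ => Ideal.mul_mem_left _ _ (WG_anti (by omega) (psiG_mem _ ha))
  | succ d ih =>
    intro m hd a hm ha
    set y := PowerSeries.coeff n (Hser fun k => psiG k a) with hy
    -- modulo weight m+1 the value is a multiple of a coefficient that vanishes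
    have h0 : y ∈ WG R ι (m + 1) := by
      obtain ⟨m', rfl⟩ : ∃ j, m = j + 1 := ⟨m - 1, by omega⟩
      have hz := (coeff_Hser_pow (S := GQ R ι) m').2 n (by omega)
      rw [coeff_Hser] at hz
      rw [hy, coeff_Hser, ← sub_zero (∑ i ∈ range (n + 1), hc n i (GQ R ι) * psiG (i + 1) a), ← zero_mul a, ← hz,
        sum_mul, ← sum_sub_distrib]
      refine sum_mem fun i _ => ?_
      rw [mul_assoc, ← mul_sub]
      exact Ideal.mul_mem_left _ _ (psiG_sub_mem (i + 1) ha)
    have hcomm : psiG 2 y - ((2 : ℕ) : GQ R ι) ^ m * y =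
        PowerSeries.coeff n (Hser fun k => psiG k (psiG 2 a - ((2 : ℕ) : GQ R ι) ^ m * a)) := by
      rw [hy, coeff_Hser, coeff_Hser, map_sum, mul_sum, ← sum_sub_distrib]
      refine sum_congr rfl fun i _ => ?_
      have hc' : psiG 2 (hc n i (GQ R ι)) = hc n i (GQ R ι) := by
        show (psiG 2 : GQ R ι →ₐ[R] GQ R ι).toRingHom _ = _
        rw [hc, map_mul, map_pow, map_neg, map_one, ← PowerSeries.coeff_map, map_mul, map_pow]
        have hgs : PowerSeries.map (psiG 2 : GQ R ι →ₐ[R] GQ R ι).toRingHom (gs (GQ R ι)) = gs (GQ R ι) := by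
          ext j
          rw [PowerSeries.coeff_map]
          rcases j with - | j
          · simp [gs]
          · have := coeff_gs_pow (GQ R ι) 0 (j + 1)
            rw [pow_one] at this
            rw [this]; simp
        have hgs' : PowerSeries.map (psiG 2 : GQ R ι →ₐ[R] GQ R ι).toRingHom (PowerSeries.derivative (GQ R ι) (gs (GQ R ι))) =
            PowerSeries.derivative (GQ R ι) (gs (GQ R ι)) := by
          conv_rhs => rw [← hgs]
          ext j; simp [PowerSeries.coeff_derivative]
        rw [hgs, hgs']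
      rw [map_mul, hc', psiG_comp, map_sub, map_mul, map_pow, map_natCast, psiG_comp, mul_comm 2 (i + 1), mul_sub]
      ring
    have h2 : psiG 2 y - ((2 : ℕ) : GQ R ι) ^ m * y ∈ WG R ι (n + 1) := by
      rw [hcomm]; exact ih (m + 1) (by omega) _ (by omega) (psiG_sub_mem 2 ha)
    suffices ∀ p, m + 1 ≤ p → p ≤ n + 1 → y ∈ WG R ι p from this (n + 1) (by omega) le_rfl
    intro p hp
    induction hp with
    | refl => exact fun _ => h0
    | @step q hq ihq =>
      intro hqn
      have hyq := ihq (by omega)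
      have := sub_mem (WG_anti (show q + 1 ≤ n + 1 from hqn) h2) (psiG_sub_mem 2 hyq)
      rw [sub_sub_sub_cancel_left, ← sub_mul] at this
      have hq' : m + 1 ≤ q := hq
      exact (Ideal.unit_mul_mem_iff_mem _ (unit_sub (show m ≠ q by omega))).1 this

lemma natSucc_mul_gamma (a : GQ R ι) (n : ℕ) :
    gamma (n + 1) a * ((n : GQ R ι) + 1) =
      ∑ i ∈ range (n + 1), PowerSeries.coeff i (Hser fun k => psiG k a) * gamma (n - i) a := by
  have := congrArg (PowerSeries.coeff n) (derivative_gamma_series a)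
  rwa [PowerSeries.coeff_derivative, PowerSeries.coeff_mk, PowerSeries.coeff_mul,
    Finset.Nat.sum_antidiagonal_eq_sum_range_succ_mk, sum_congr rfl (fun i _ => by rw [PowerSeries.coeff_mk])] at this

/-- `γ^i` of weight `≥ 1` has weight `≥ i` -/
theorem gamma_mem_WG {a : GQ R ι} (ha : a ∈ WG R ι 1) : ∀ i, gamma i a ∈ WG R ι i := by
  intro i
  induction i using Nat.strong_induction_on with
  | _ i ih =>
    cases i with
    | zero => exact mem_WG_zero _
    | succ n =>
      refine (Ideal.mul_unit_mem_iff_mem _ (isUnit_succ (K := GQ R ι) n)).1 ?_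
      rw [natSucc_mul_gamma]
      refine sum_mem fun i hi => ?_
      rw [mem_range] at hi
      have := WG_mul_mem (Hser_mem (n := i) le_rfl ha) (ih (n - i) (by omega))
      rwa [show i + 1 + (n - i) = n + 1 by omega] at this

/-- `γ^i` maps weight `≥ m` into itself -/
theorem gamma_mem_WG' {m : ℕ} {a : GQ R ι} (ha : a ∈ WG R ι m) : ∀ i, 1 ≤ i → gamma i a ∈ WG R ι m := by
  intro i hi
  obtain ⟨n, rfl⟩ : ∃ j, i = j + 1 := ⟨i - 1, by omega⟩
  refine (Ideal.mul_unit_mem_iff_mem _ (isUnit_succ (K := GQ R ι) n)).1 ?_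
  rw [natSucc_mul_gamma]
  refine sum_mem fun i _ => Ideal.mul_mem_right _ _ ?_
  rw [coeff_Hser]
  exact sum_mem fun j _ => Ideal.mul_mem_left _ _ (psiG_mem _ ha)

/-- the leading term of `γ^m` on weight `≥ m` -/
theorem gamma_sub_mem_WG {m : ℕ} (hm : 1 ≤ m) {a : GQ R ι} (ha : a ∈ WG R ι m) :
    gamma m a - (-1 : GQ R ι) ^ (m - 1) * ((m - 1).factorial : GQ R ι) * a ∈ WG R ι (m + 1) := by
  obtain ⟨n, rfl⟩ : ∃ j, m = j + 1 := ⟨m - 1, by omega⟩
  rw [Nat.add_sub_cancel]
  refine (Ideal.mul_unit_mem_iff_mem _ (isUnit_succ (K := GQ R ι) n)).1 ?_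
  rw [sub_mul, natSucc_mul_gamma, sum_range_succ, Nat.sub_self, gamma_zero, mul_one, add_sub_assoc]
  refine add_mem (sum_mem fun i hi => ?_) ?_
  · rw [mem_range] at hi
    refine WG_anti (show n + 1 + 1 ≤ (n + 1) + (n + 1) by omega) (WG_mul_mem ?_ (gamma_mem_WG' ha (n - i) (by omega)))
    rw [coeff_Hser]
    exact sum_mem fun j _ => Ideal.mul_mem_left _ _ (psiG_mem _ ha)
  · rw [show (-1 : GQ R ι) ^ n * (n.factorial : GQ R ι) * a * ((n : GQ R ι) + 1) =
      ((-1 : GQ R ι) ^ n * ((n + 1).factorial : GQ R ι)) * a by rw [Nat.factorial_succ]; push_cast; ring,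
      ← (coeff_Hser_pow (S := GQ R ι) n).1, coeff_Hser, coeff_Hser, sum_mul, ← sum_sub_distrib]
    refine sum_mem fun i _ => ?_
    rw [mul_assoc, ← mul_sub]
    exact Ideal.mul_mem_left _ _ (psiG_sub_mem (i + 1) ha)

/-- the ideal of `γ^j x_l`, `j ≥ d` -/
def TG (R : Type*) [CommRing R] {ι : Type*} (l : ι) (d : ℕ) : Ideal (GQ R ι) :=
  Ideal.span (X '' {p : ι × ℕ | p.1 = l ∧ d ≤ p.2})

lemma psiG_TG (k : ℕ) (l : ι) (d : ℕ) {a : GQ R ι} (ha : a ∈ TG R l d) : psiG k a ∈ TG R l d := by
  suffices TG R l d ≤ (TG R l d).comap (psiG k : GQ R ι →ₐ[R] GQ R ι).toRingHom from this ha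
  rw [TG, Ideal.span_le]
  rintro _ ⟨⟨l', i⟩, ⟨rfl, hi⟩, rfl⟩
  show psiG k (X (l', i) : GQ R ι) ∈ Ideal.span ((X : ι × ℕ → GQ R ι) '' {p : ι × ℕ | p.1 = l' ∧ d ≤ p.2})
  rw [psiG, aeval_X]
  rw [← Ideal.Quotient.eq_zero_iff_mem]
  set π := Ideal.Quotient.mk (Ideal.span (X '' {p : ι × ℕ | p.1 = l' ∧ d ≤ p.2}) : Ideal (GQ R ι))
  show (π.toIntAlgHom.comp (aeval (grp l'))) (adPoly k (i + 1)) = 0
  rw [comp_aeval]
  have h1 : (fun j => π.toIntAlgHom (grp l' j)) =
      fun j => if j < i then π.toIntAlgHom (grp l' j) else 0 := funext fun j => by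
    split_ifs with h
    · rfl
    · exact Ideal.Quotient.eq_zero_iff_mem.2 (Ideal.subset_span ⟨(l', j), ⟨rfl, by dsimp; omega⟩, rfl⟩)
  rw [h1]
  exact aeval_trunc_eq_zero (kill_adPoly k rfl) _

lemma lam_mem_TG {l : ι} {d : ℕ} {a : GQ R ι} (ha : a ∈ TG R l d) (n : ℕ) (hn : 1 ≤ n) :
    LambdaOps.lam n a ∈ TG R l d := by
  obtain ⟨n, rfl⟩ : ∃ j, n = j + 1 := ⟨n - 1, by omega⟩
  show lamOf (fun i => (-1) ^ i * psiAdd (i + 1) a) (n + 1) ∈ _
  rw [lamOf]
  exact Ideal.mul_mem_left _ _ (sum_mem fun i _ => Ideal.mul_mem_right _ _ (Ideal.mul_mem_left _ _ (psiG_TG _ l d ha)))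

lemma gamma_mem_TG {l : ι} {d : ℕ} {a : GQ R ι} (ha : a ∈ TG R l d) (n : ℕ) (hn : 1 ≤ n) :
    gamma n a ∈ TG R l d := by
  rw [gamma, if_neg (by omega)]
  refine sum_mem fun i _ => Ideal.mul_mem_left _ _ ?_
  rcases Nat.eq_zero_or_pos i with rfl | hi
  · simp
  · rw [if_neg (by omega)]; exact lam_mem_TG ha i hi

end Groth.Agent.LamR
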