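import Groth.Agent.LamR.Series
import Mathlib.RingTheory.MvPolynomial.Symmetric.FundamentalTheorem
import Mathlib.Algebra.MvPolynomial.Equiv

/-!
# Symmetric operations as universal polynomials in the elementary symmetric functions

The fundamental theorem on symmetric functions, in the stable form: a natural operation on
multisets, homogeneous of degree `D` and unchanged by adding zeros, is a weighted homogeneous
polynomial in `es s i = e_{i+1}(s)`.  Polynomials in countably many variables are determined by
their values on all multisets.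
-/

open Finset MvPolynomial

noncomputable section

namespace Groth.Agent.LamR

/-- the weight of the variable `i`, standing for `e_{i+1}` -/
def wt (i : ℕ) : ℕ := i + 1

lemma finsupp_le_weight {σ : Type*} {w : σ → ℕ} (d : σ →₀ ℕ) {i : σ} (hi : d i ≠ 0) :
    w i ≤ Finsupp.weight w d :=
  Finsupp.le_weight_of_ne_zero' w hi

section General

variable {R : Type*} [CommRing R] {σ τ M : Type*} [AddCommMonoid M] {w : σ → M} {w' : τ → M}

lemma isWeightedHomogeneous_multiset_prod (s : Multiset (MvPolynomial τ R)) (d : M)
    (h : ∀ x ∈ s, IsWeightedHomogeneous w' x d) : IsWeightedHomogeneous w' s.prod (s.card • d) := by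
  induction s using Multiset.induction_on with
  | empty => simpa using isWeightedHomogeneous_one R w'
  | cons a s ih =>
    rw [Multiset.prod_cons, Multiset.card_cons, succ_nsmul']
    exact (h a (Multiset.mem_cons_self a s)).mul (ih fun x hx => h x (Multiset.mem_cons_of_mem hx))

lemma isWeightedHomogeneous_multiset_sum (s : Multiset (MvPolynomial τ R)) (d : M)
    (h : ∀ x ∈ s, IsWeightedHomogeneous w' x d) : IsWeightedHomogeneous w' s.sum d :=
  (weightedHomogeneousSubmodule R w' d).multiset_sum_mem s h

lemma isWeightedHomogeneous_esymm (s : Multiset (MvPolynomial τ R)) (d : M)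
    (h : ∀ x ∈ s, IsWeightedHomogeneous w' x d) (j : ℕ) : IsWeightedHomogeneous w' (s.esymm j) (j • d) := by
  refine isWeightedHomogeneous_multiset_sum _ _ fun x hx => ?_
  obtain ⟨t, ht, rfl⟩ := Multiset.mem_map.1 hx
  rw [Multiset.mem_powersetCard] at ht
  exact ht.2 ▸ isWeightedHomogeneous_multiset_prod t d fun y hy => h y (Multiset.mem_of_le ht.1 hy)

lemma isWeightedHomogeneous_aeval_monomial {g : σ → MvPolynomial τ R}
    (hg : ∀ i, IsWeightedHomogeneous w' (g i) (w i)) (d : σ →₀ ℕ) (r : R) :
    IsWeightedHomogeneous w' (aeval g (monomial d r)) (Finsupp.weight w d) := by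
  rw [aeval_monomial, Finsupp.weight_apply, Finsupp.prod, Finsupp.sum]
  exact (IsWeightedHomogeneous.prod d.support _ _ fun i _ => (hg i).pow (d i)).C_mul r

lemma isWeightedHomogeneous_aeval {g : σ → MvPolynomial τ R}
    (hg : ∀ i, IsWeightedHomogeneous w' (g i) (w i)) {p : MvPolynomial σ R} {D : M}
    (hp : IsWeightedHomogeneous w p D) : IsWeightedHomogeneous w' (aeval g p) D := by
  rw [p.as_sum, map_sum]
  refine IsWeightedHomogeneous.sum _ _ _ fun d hd => ?_
  exact hp (mem_support_iff.1 hd) ▸ isWeightedHomogeneous_aeval_monomial hg d _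

lemma weightedHomogeneousComponent_aeval [DecidableEq M] {g : σ → MvPolynomial τ R}
    (hg : ∀ i, IsWeightedHomogeneous w' (g i) (w i)) (p : MvPolynomial σ R) (e : M) :
    weightedHomogeneousComponent w' e (aeval g p) = aeval g (weightedHomogeneousComponent w e p) := by
  induction p using MvPolynomial.induction_on' with
  | monomial d r =>
    rw [weightedHomogeneousComponent_of_mem (m := e) ((mem_weightedHomogeneousSubmodule R w' _ _).2 (isWeightedHomogeneous_aeval_monomial hg d r)),
      weightedHomogeneousComponent_of_mem (m := e) ((mem_weightedHomogeneousSubmodule R w _ _).2 (isWeightedHomogeneous_monomial w d r rfl))]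
    split_ifs <;> simp
  | add p q hp hq => simp only [map_add, hp, hq]

/-- An element all of whose other components vanish is homogeneous. -/
lemma isWeightedHomogeneous_of_components [DecidableEq M] {p : MvPolynomial σ R} {D : M}
    (h : ∀ e, e ≠ D → weightedHomogeneousComponent w e p = 0) : IsWeightedHomogeneous w p D := by
  intro d hd
  by_contra hne
  have := congrArg (coeff d) (h _ hne)
  rw [coeff_weightedHomogeneousComponent, if_pos rfl, coeff_zero] at this
  exact hd this

lemma aeval_congr_vars {S : Type*} [CommRing S] [Algebra R S] {p : MvPolynomial σ R} {f g : σ → S}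
    (h : ∀ i ∈ p.vars, f i = g i) : aeval f p = aeval g p :=
  eval₂Hom_congr' rfl (fun i hi _ => h i hi) rfl

end General

variable {B : Type} [CommRing B]

/-- the generic multiset of `N` elements -/
def gen (N : ℕ) (B : Type) [CommRing B] : Multiset (MvPolynomial (Fin N) B) :=
  (Finset.univ : Finset (Fin N)).val.map X

lemma exists_eq_map_univ {R : Type*} (s : Multiset R) {N : ℕ} (hN : s.card = N) :
    ∃ a : Fin N → R, s = (Finset.univ : Finset (Fin N)).val.map a := by
  subst hN
  induction s using Quotient.inductionOn with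
  | h l =>
    refine ⟨l.get, ?_⟩
    change (l : Multiset R) = (Finset.univ : Finset (Fin l.length)).val.map l.get
    rw [Fin.univ_val_map, List.ofFn_get]

lemma es_gen (N i : ℕ) : es (gen N B) i = esymm (Fin N) B (i + 1) := by
  rw [es, gen, esymm_eq_multiset_esymm]

lemma map_es {R S : Type*} [CommRing R] [CommRing S] (f : R →+* S) (s : Multiset R) (i : ℕ) :
    f (es s i) = es (s.map f) i := map_esymm f s _

lemma algHom_aeval_es {R S : Type} [CommRing R] [CommRing S] [Algebra B R] [Algebra B S] (f : R →ₐ[B] S)
    (s : Multiset R) (p : MvPolynomial ℕ B) : f (aeval (es s) p) = aeval (es (s.map f)) p := by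
  rw [← AlgHom.comp_apply, comp_aeval]
  congr 2
  funext i
  exact map_es (f : R →+* S) s i

/-- restriction to the first `N` variables -/
def kill (N : ℕ) : MvPolynomial ℕ B →ₐ[B] MvPolynomial (Fin N) B :=
  aeval fun i => if h : i < N then X ⟨i, h⟩ else 0

lemma rename_kill {N : ℕ} {p : MvPolynomial ℕ B} (hp : ∀ i ∈ p.vars, i < N) :
    rename Fin.val (kill N p) = p := by
  rw [kill, ← AlgHom.comp_apply, comp_aeval]
  refine (aeval_congr_vars fun i hi => ?_).trans (aeval_X_left_apply p)
  rw [dif_pos (hp i hi), rename_X]

lemma aeval_gen_rename (N : ℕ) (q : MvPolynomial (Fin N) B) :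
    aeval (es (gen N B)) (rename Fin.val q) = (esymmAlgHom (Fin N) B N q : MvPolynomial (Fin N) B) := by
  rw [aeval_rename, esymmAlgHom_apply]
  congr 2
  funext i
  exact es_gen N i

lemma gen_injective {N : ℕ} {p p' : MvPolynomial ℕ B} (hp : ∀ i ∈ p.vars, i < N) (hp' : ∀ i ∈ p'.vars, i < N)
    (h : aeval (es (gen N B)) p = aeval (es (gen N B)) p') : p = p' := by
  rw [← rename_kill hp, ← rename_kill hp', aeval_gen_rename, aeval_gen_rename] at h
  rw [← rename_kill hp, ← rename_kill hp']
  exact congrArg _ (esymmAlgHom_injective B (by simp) (Subtype.ext h))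

/-- Polynomials agreeing on all multisets are equal. -/
lemma eq_of_forall {p p' : MvPolynomial ℕ B}
    (h : ∀ (R : Type) [CommRing R] [Algebra B R] (s : Multiset R), aeval (es s) p = aeval (es s) p') : p = p' := by
  classical
  refine gen_injective (N := (p.vars ∪ p'.vars).sup id + 1) (fun i hi => ?_) (fun i hi => ?_) (h _ _) <;>
    exact Nat.lt_succ_of_le (Finset.le_sup (f := id) (by simp [hi]))

lemma vars_lt_of_weighted {p : MvPolynomial ℕ B} {D : ℕ} (hp : IsWeightedHomogeneous wt p D) {i : ℕ}
    (hi : i ∈ p.vars) : i < D := by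
  obtain ⟨d, hd, hid⟩ := (mem_vars_iff_mem_support i).1 hi
  have h := finsupp_le_weight (w := wt) d (Finsupp.mem_support_iff.1 hid)
  rw [hp (mem_support_iff.1 hd)] at h
  exact h

/-- The stable fundamental theorem on symmetric functions. -/
theorem exists_sym (F : ∀ (R : Type) [CommRing R] [Algebra B R], Multiset R → R)
    (nat : ∀ (R S : Type) [CommRing R] [CommRing S] [Algebra B R] [Algebra B S] (f : R →ₐ[B] S) (s : Multiset R),
      f (F R s) = F S (s.map f))
    (pad : ∀ (R : Type) [CommRing R] [Algebra B R] (s : Multiset R), F R (0 ::ₘ s) = F R s)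
    (D : ℕ) (hom : ∀ N, IsWeightedHomogeneous (fun _ => 1) (F _ (gen N B)) D) :
    ∃ q : MvPolynomial ℕ B, IsWeightedHomogeneous wt q D ∧
      ∀ (R : Type) [CommRing R] [Algebra B R] (s : Multiset R), aeval (es s) q = F R s := by
  classical
  have padN : ∀ (R : Type) [CommRing R] [Algebra B R] (s : Multiset R) (r : ℕ),
      F R (s + Multiset.replicate r 0) = F R s := fun R _ _ s r => by
    induction r with
    | zero => simp
    | succ r ih => rw [Multiset.replicate_succ, Multiset.add_cons, pad, ih]
  have fin : ∀ N, ∃ q : MvPolynomial ℕ B, IsWeightedHomogeneous wt q D ∧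
      ∀ (R : Type) [CommRing R] [Algebra B R] (s : Multiset R), s.card ≤ N → aeval (es s) q = F R s := by
    intro N
    have hsym : F _ (gen N B) ∈ symmetricSubalgebra (Fin N) B := by
      intro σ
      rw [nat, gen, Multiset.map_map]
      congr 1
      conv_rhs => rw [← Finset.map_univ_equiv σ, Finset.map_val, Multiset.map_map]
      exact Multiset.map_congr rfl fun i _ => rename_X σ i
    obtain ⟨q', hq'⟩ := esymmAlgHom_surjective B (n := N) (σ := Fin N) (by simp) ⟨_, hsym⟩
    have hq'' : aeval (fun i : Fin N => esymm (Fin N) B (i + 1)) q' = F _ (gen N B) := by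
      rw [← esymmAlgHom_apply, hq']
    have hw : IsWeightedHomogeneous (fun i : Fin N => wt i) q' D := by
      refine isWeightedHomogeneous_of_components fun e he => ?_
      apply esymmAlgHom_injective B (n := N) (σ := Fin N) (by simp)
      apply Subtype.ext
      rw [esymmAlgHom_apply, map_zero,
        ← weightedHomogeneousComponent_aeval (w' := fun _ : Fin N => 1) (fun i => ?_), hq'',
        (hom N).weightedHomogeneousComponent_ne e he]
      · rfl
      · rw [esymm_eq_multiset_esymm]
        have hh := isWeightedHomogeneous_esymm (w' := fun _ : Fin N => 1) ((Finset.univ : Finset (Fin N)).val.map (X : Fin N → MvPolynomial (Fin N) B)) 1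
          (fun x hx => by obtain ⟨j, -, rfl⟩ := Multiset.mem_map.1 hx; exact isWeightedHomogeneous_X B _ j) ((i : ℕ) + 1)
        rwa [smul_eq_mul, mul_one] at hh
    refine ⟨rename Fin.val q', ?_, fun R _ _ s hs => ?_⟩
    · rw [rename_eq_aeval]
      exact isWeightedHomogeneous_aeval (w := fun i : Fin N => wt i) (fun i => isWeightedHomogeneous_X B wt (i : ℕ)) hw
    · obtain ⟨r, hr⟩ := Nat.exists_eq_add_of_le hs
      have hcard : (s + Multiset.replicate r 0).card = N := by simp [hr]
      have h1 : es s = es (s + Multiset.replicate r 0) := funext fun i => (esymm_add_zeros s r _).symm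
      rw [← padN R s r, h1]
      clear hs hr h1
      obtain ⟨a, ha⟩ := exists_eq_map_univ (s + Multiset.replicate r 0) hcard
      have hmap : (gen N B).map (aeval a) = s + Multiset.replicate r 0 := by
        conv_rhs => rw [ha]
        rw [gen, Multiset.map_map]
        exact Multiset.map_congr rfl fun i _ => aeval_X a i
      rw [← hmap, ← nat, ← algHom_aeval_es, aeval_gen_rename, esymmAlgHom_apply, hq'']
  obtain ⟨q, hq, hqe⟩ := fin D
  refine ⟨q, hq, fun R _ _ s => ?_⟩
  rcases le_total s.card D with h | h
  · exact hqe R s h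
  · obtain ⟨q', hq', hqe'⟩ := fin s.card
    have : q = q' := gen_injective (N := D) (fun i hi => vars_lt_of_weighted hq hi)
      (fun i hi => vars_lt_of_weighted hq' hi) (by rw [hqe _ _ (by simp [gen]), hqe' _ _ (by simp [gen, h])])
    rw [this, hqe' R s le_rfl]

end Groth.Agent.LamR
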