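import Groth.Agent.LamR.Basic
import Groth.Prelude.Def_W4bkmilneecrracsp2Inv

/-!
# λ-operations and involutions
-/

open Finset

namespace Groth.Agent.LamR

open LambdaRing

universe u

variable {K : Type u} [CommRing K]

lemma esymm_card (s : Multiset K) : s.esymm s.card = s.prod := by
  simp [Multiset.esymm]

lemma esymm_cons (a : K) (s : Multiset K) (k : ℕ) :
    (a ::ₘ s).esymm (k + 1) = s.esymm (k + 1) + a * s.esymm k := by
  simp [Multiset.esymm, Multiset.powersetCard_cons, Multiset.map_map, Multiset.sum_map_mul_left]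

lemma esymm_map_inv_mul_prod (iv : K → K) (s : Multiset K) (h : ∀ v ∈ s, iv v * v = 1) :
    ∀ i j : ℕ, i + j = s.card → (s.map iv).esymm j * s.prod = s.esymm i := by
  induction s using Multiset.induction_on with
  | empty => intro i j hij; simp at hij; simp [hij.1, hij.2, Multiset.esymm]
  | cons a s ih =>
    have ih' := ih fun v hv => h v (Multiset.mem_cons_of_mem hv)
    have ha := h a (Multiset.mem_cons_self a s)
    intro i j hij
    rw [Multiset.card_cons] at hij
    rw [Multiset.map_cons, Multiset.prod_cons]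
    match i, j with
    | i, 0 =>
      rw [add_zero] at hij
      rw [hij, ← Multiset.card_cons a s, esymm_card, Multiset.prod_cons]
      simp [Multiset.esymm]
    | 0, j + 1 =>
      have hj : j = s.card := by omega
      have h2 := ih' 0 j (by omega)
      rw [esymm_cons, Multiset.esymm, Multiset.powersetCard_eq_empty _ (by rw [Multiset.card_map]; omega)]
      simp only [Multiset.map_zero, Multiset.sum_zero, zero_add]
      rw [show iv a * (s.map iv).esymm j * (a * s.prod) = (iv a * a) * ((s.map iv).esymm j * s.prod) by ring,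
        ha, h2, one_mul]
      simp [Multiset.esymm]
    | i + 1, j + 1 =>
      rw [esymm_cons, esymm_cons, ← ih' (i + 1) j (by omega), ← ih' i (j + 1) (by omega)]
      linear_combination ((s.map iv).esymm j * s.prod) * ha

variable [LambdaOps K] {P : PosStructure K} {inv : K → K}

lemma lam_inv (hS : HasInvSplitting P inv) {e : K} (he : e ∈ P.pos) {i : ℕ} (hi : i ≤ (P.aug e).toNat) :
    LambdaOps.lam i e = LambdaOps.lam ((P.aug e).toNat - i) (inv e) * LambdaOps.lam (P.aug e).toNat e := by
  obtain ⟨L, iv, f, hf, hiv, hcomp, s, hs, hsum⟩ := hS e he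
  apply hf.injective
  have hn : (P.aug e).toNat = s.card := by
    rw [← hf.aug_comp, ← hsum, card_eq_aug hs, Int.toNat_natCast]
  have hmap : iv s.sum = (s.map iv).sum := by
    exact map_multiset_sum (AddMonoidHom.mk' iv hiv.map_add) s
  rw [hn] at hi
  rw [map_mul, hf.isLambdaHom, hf.isLambdaHom, hf.isLambdaHom, hcomp, hn, ← hsum, hmap,
    lam_multiset_sum s fun v hv => lam_line _ (hs v hv), lam_multiset_sum s fun v hv => lam_line _ (hs v hv),
    lam_multiset_sum (s.map iv) fun v hv => ?_, esymm_card,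
    esymm_map_inv_mul_prod iv s (fun v hv => hiv.inv_mul_self v (hs v hv)) i (s.card - i) (by omega)]
  obtain ⟨w, hw, rfl⟩ := Multiset.mem_map.1 hv
  exact lam_line _ (hiv.inv_line w (hs w hw))

lemma gamma_sub_natCast_top (h1 : ∀ j : ℕ, 2 ≤ j → LambdaOps.lam j (1 : K) = 0) (n : ℕ) (y : K) :
    gamma n (y - (n : K)) = (-1) ^ n * ∑ i ∈ range (n + 1), (-1) ^ i * LambdaOps.lam i y := by
  rw [gamma_eq_lam h1, sub_add_cancel, lam_eq_alternating h1 n (y - 1), sub_add_cancel]

lemma gamma_top_eq (hS : HasInvSplitting P inv) {e : K} (he : e ∈ P.pos) :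
    gamma (P.aug e).toNat (e - ((P.aug e).toNat : K)) =
      (∑ i ∈ range ((P.aug e).toNat + 1), (-1 : K) ^ i * LambdaOps.lam i (inv e)) *
        LambdaOps.lam (P.aug e).toNat e := by
  set n := (P.aug e).toNat with hn
  rw [gamma_sub_natCast_top (lam_one_pos P), sum_mul, mul_sum, ← sum_range_reflect (fun i => (-1 : K) ^ i * LambdaOps.lam i (inv e) * _)]
  refine sum_congr rfl fun i hi => ?_
  rw [mem_range] at hi
  rw [lam_inv hS he (show i ≤ n by omega), ← hn, show n + 1 - 1 - i = n - i by omega, ← mul_assoc, ← mul_assoc, ← pow_add,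
    show n + i = (n - i) + 2 * i by omega, pow_add, pow_mul, neg_one_sq, one_pow, mul_one]

lemma gamma_inv_sub_mem (hK : HasSplitting K P) (hV : IsInvolution P inv) (hS : HasInvSplitting P inv)
    {q : K} (hq : q ∈ P.pos) :
    gamma (P.aug q).toNat (inv q - ((P.aug q).toNat : K)) -
        (∑ i ∈ range ((P.aug q).toNat + 1), (-1 : K) ^ i * LambdaOps.lam i q) ∈
      gammaFiltration P ((P.aug q).toNat + 1) := by
  have h := gamma_top_eq hS hq
  have hb := aug_lam hK hq (P.aug q).toNat
  have hpos := P.aug_pos q hq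
  set n := (P.aug q).toNat with hn
  have haug : P.aug q = (n : ℤ) := by rw [hn, Int.toNat_of_nonneg hpos.le]
  rw [gamma_sub_natCast_top (lam_one_pos P)] at h
  have key : (∑ i ∈ range (n + 1), (-1 : K) ^ i * LambdaOps.lam i q) =
      gamma n (inv q - (n : K)) * LambdaOps.lam n q := by
    rw [gamma_sub_natCast_top (lam_one_pos P), mul_assoc, ← h, ← mul_assoc, ← pow_add, Even.neg_one_pow ⟨n, rfl⟩, one_mul]
  rw [key, show gamma n (inv q - (n : K)) - gamma n (inv q - (n : K)) * LambdaOps.lam n q =
    ([(n, inv q - (n : K)), (1, 1 - LambdaOps.lam n q)].map fun p => gamma p.1 p.2).prod by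
      simp [gamma_one]; ring]
  refine mem_of_gens P _ ?_ (by simp)
  simp [hV.aug_inv, haug, hb]

end Groth.Agent.LamR
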