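import Groth.Agent.LamR.Filt
import Mathlib.LinearAlgebra.Eigenspace.Basic
import Mathlib.LinearAlgebra.TensorProduct.Basic

/-!
# Eigenspaces of the rationalized Adams operations
-/

open Finset TensorProduct

namespace Groth.Agent.LamR

section LinAlg

variable {F V : Type*} [Field F] [AddCommGroup V] [Module F V] {T : Module.End F V} {c : ℕ → F}
  {G : ℕ → Submodule F V} {d : ℕ}

/-- an endomorphism graded modulo a finite filtration with pairwise distinct scalars -/
structure Graded (T : Module.End F V) (c : ℕ → F) (G : ℕ → Submodule F V) (d : ℕ) : Prop where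
  anti : Antitone G
  top : G 0 = ⊤
  bot : G (d + 1) = ⊥
  step : ∀ n, ∀ x ∈ G n, T x - c n • x ∈ G (n + 1)
  inj : Function.Injective c

variable (h : Graded T c G d)
include h

lemma Graded.climb {m n : ℕ} (hmn : n ≠ m) {x : V} (hx : x ∈ Module.End.eigenspace T (c m)) (hn : x ∈ G n) :
    x ∈ G (n + 1) := by
  have := h.step n x hn
  rw [Module.End.mem_eigenspace_iff.1 hx, ← sub_smul] at this
  exact (Submodule.smul_mem_iff _ (sub_ne_zero.2 fun e => hmn (h.inj e).symm)).1 this

lemma Graded.eigen_le (m : ℕ) : Module.End.eigenspace T (c m) ≤ G m := by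
  intro x hx
  suffices ∀ n ≤ m, x ∈ G n from this m le_rfl
  intro n hn
  induction n with
  | zero => rw [h.top]; trivial
  | succ n ih => exact h.climb (by omega) hx (ih (by omega))

lemma Graded.inf_eq (m : ℕ) : Module.End.eigenspace T (c m) ⊓ G (m + 1) = ⊥ := by
  rw [eq_bot_iff]
  rintro x ⟨hx, hx'⟩
  suffices ∀ k, x ∈ G (m + 1 + k) by
    rw [← h.bot]; exact h.anti (show d + 1 ≤ m + 1 + (d + 1) from Nat.le_add_left _ _) (this (d + 1))
  intro k
  induction k with
  | zero => exact hx'
  | succ k ih => exact h.climb (show m + 1 + k ≠ m by omega) hx ih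

lemma Graded.exists_lift (m : ℕ) {x : V} (hx : x ∈ G m) :
    ∃ e ∈ Module.End.eigenspace T (c m), x - e ∈ G (m + 1) := by
  suffices ∀ k, ∃ e, x - e ∈ G (m + 1) ∧ e ∈ G m ∧ T e - c m • e ∈ G (m + 1 + k) by
    obtain ⟨e, he, -, he'⟩ := this (d + 1)
    refine ⟨e, Module.End.mem_eigenspace_iff.2 (sub_eq_zero.1 ?_), he⟩
    have := h.anti (show d + 1 ≤ m + 1 + (d + 1) from Nat.le_add_left _ _) he'
    rwa [h.bot, Submodule.mem_bot] at this
  intro k
  induction k with
  | zero => exact ⟨x, by simp, hx, h.step m x hx⟩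
  | succ k ih =>
    obtain ⟨e, he1, he2, he3⟩ := ih
    set n := m + 1 + k
    set w := T e - c m • e with hw
    have hne : c n - c m ≠ 0 := sub_ne_zero.2 fun q => by have := h.inj q; omega
    refine ⟨e - (c n - c m)⁻¹ • w, ?_, ?_, ?_⟩
    · rw [sub_sub_eq_add_sub, add_sub_right_comm]
      exact add_mem he1 (Submodule.smul_mem _ _ (h.anti (by omega) he3))
    · exact sub_mem he2 (Submodule.smul_mem _ _ (h.anti (by omega) he3))
    · have key : T (e - (c n - c m)⁻¹ • w) - c m • (e - (c n - c m)⁻¹ • w) = -((c n - c m)⁻¹ • (T w - c n • w)) := by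
        rw [map_sub, map_smul, show T e = w + c m • e by rw [hw, sub_add_cancel]]
        have hc : (1 : F) + (c n - c m)⁻¹ * c m = (c n - c m)⁻¹ * c n := by field_simp; ring
        calc _ = ((1 : F) + (c n - c m)⁻¹ * c m) • w - (c n - c m)⁻¹ • T w := by module
          _ = _ := by rw [hc]; module
      rw [key]
      exact neg_mem (Submodule.smul_mem _ _ (h.step n w he3))

lemma Graded.sup_eq (m : ℕ) : Module.End.eigenspace T (c m) ⊔ G (m + 1) = G m := by
  refine le_antisymm (sup_le (h.eigen_le m) (h.anti (Nat.le_succ m))) fun x hx => ?_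
  obtain ⟨e, he, he'⟩ := h.exists_lift m hx
  exact Submodule.mem_sup.2 ⟨e, he, x - e, he', add_sub_cancel _ _⟩

lemma Graded.iSup_eq : (⨆ m ∈ range (d + 1), Module.End.eigenspace T (c m)) = ⊤ := by
  rw [eq_top_iff, ← h.top]
  suffices ∀ k n, n + k = d + 1 → G n ≤ ⨆ m ∈ range (d + 1), Module.End.eigenspace T (c m) from
    this (d + 1) 0 (by omega)
  intro k
  induction k with
  | zero => intro n hn; rw [show n = d + 1 by omega, h.bot]; exact bot_le
  | succ k ih =>
    intro n hn
    rw [← h.sup_eq n]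
    exact sup_le (le_iSup₂_of_le n (mem_range.2 (by omega)) le_rfl) (ih (n + 1) (by omega))

lemma Graded.eigen_eq {S : Module.End F V} {e : ℕ → F} (h' : Graded S e G d)
    (hcomm : ∀ x, T (S x) = S (T x)) (m : ℕ) :
    Module.End.eigenspace T (c m) ≤ Module.End.eigenspace S (e m) := by
  intro x hx
  have hx' := Module.End.mem_eigenspace_iff.1 hx
  have h1 : S x - e m • x ∈ Module.End.eigenspace T (c m) := by
    rw [Module.End.mem_eigenspace_iff, map_sub, map_smul, hcomm, hx', map_smul, smul_sub, smul_comm]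
  have h2 := h'.step m x (h.eigen_le m hx)
  have : S x - e m • x ∈ (⊥ : Submodule F V) := h.inf_eq m ▸ ⟨h1, h2⟩
  rwa [Submodule.mem_bot, sub_eq_zero, ← Module.End.mem_eigenspace_iff] at this

end LinAlg

open LambdaRing

universe u

variable {K : Type u} [CommRing K] [LambdaOps K]

/-- the filtration on `ℚ ⊗ K` -/
noncomputable def QFil (P : PosStructure K) (n : ℕ) : Submodule ℚ (ℚ ⊗[ℤ] K) :=
  Submodule.span ℚ ((fun x : K => (1 : ℚ) ⊗ₜ[ℤ] x) '' (gammaFiltration P n : Set K))

lemma graded_adams {P : PosStructure K} (hK : HasSplitting K P) {d : ℕ}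
    (hd : gammaFiltration P (d + 1) = ⊥) {j : ℕ} (hj : 2 ≤ j) {Ψ : ℚ ⊗[ℤ] K →ₗ[ℚ] ℚ ⊗[ℤ] K}
    (hΨ : ∀ x : K, Ψ (1 ⊗ₜ[ℤ] x) = 1 ⊗ₜ[ℤ] adams P j x) :
    Graded Ψ (fun n => (j : ℚ) ^ n) (QFil P) d where
  anti a b hab := Submodule.span_mono (Set.image_mono (gammaFiltration_anti P hab))
  top := by
    rw [eq_top_iff]
    intro x _
    induction x with
    | zero => exact zero_mem _
    | tmul q a =>
      rw [show q ⊗ₜ[ℤ] a = q • ((1 : ℚ) ⊗ₜ[ℤ] a) by rw [TensorProduct.smul_tmul', smul_eq_mul, mul_one]]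
      exact Submodule.smul_mem _ _ (Submodule.subset_span ⟨a, mem_gammaFiltration_zero P a, rfl⟩)
    | add x y hx hy => exact add_mem (hx trivial) (hy trivial)
  bot := by
    rw [QFil, hd, Submodule.span_eq_bot]
    rintro _ ⟨a, ha, rfl⟩
    rw [SetLike.mem_coe, AddSubgroup.mem_bot] at ha
    simp [ha]
  step n x hx := by
    induction hx using Submodule.span_induction with
    | zero => simp
    | add a b _ _ iha ihb => rw [map_add, smul_add, add_sub_add_comm]; exact add_mem iha ihb
    | smul q a _ iha => rw [map_smul, smul_comm, ← smul_sub]; exact Submodule.smul_mem _ _ iha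
    | mem a ha =>
      obtain ⟨a, ha, rfl⟩ := ha
      refine Submodule.subset_span ⟨_, adams_sub_mem hK j ha, ?_⟩
      simp only []
      rw [hΨ, TensorProduct.tmul_sub]
      congr 1
      rw [show (j : K) ^ n * a = (((j : ℤ) ^ n) • a) by simp [zsmul_eq_mul], TensorProduct.tmul_smul,
        ← Int.cast_smul_eq_zsmul ℚ]
      norm_num
  inj a b hab := Nat.pow_right_injective hj (show j ^ a = j ^ b from by simp only at hab; exact_mod_cast hab)

end Groth.Agent.LamR
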