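import Groth.Agent.LamR.FreeQ
import Mathlib.RingTheory.MvPolynomial.Ideal

/-!
# The free special λ-algebra over a binomial ring, in γ-coordinates

`GV K ι = K[g_{l,i}]` is a special λ-ring containing `K`, with `γ^{i+1} g_{l,0} = g_{l,i}`; it maps by
λ-homomorphisms to every special `K`-λ-algebra, and its weight filtration maps to the γ-filtration.
-/

open Finset MvPolynomial

noncomputable section

namespace Groth.Agent.LamR

open LambdaRing

section Maps

variable {S T : Type*} [CommRing S] [LambdaOps S] [CommRing T] [LambdaOps T]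

lemma ringHom_aeval {σ : Type*} [Algebra ℤ S] [Algebra ℤ T] (f : S →+* T) (u : σ → S) (p : MvPolynomial σ ℤ) :
    f (aeval u p) = aeval (fun i => f (u i)) p := by
  induction p using MvPolynomial.induction_on with
  | C r => simp
  | add a b ha hb => simp only [map_add, ha, hb]
  | mul_X a i ha => simp only [map_mul, ha, aeval_X]

lemma aeval_congr_int {σ T : Type*} [CommRing T] (i₁ i₂ : Algebra ℤ T) {u w : σ → T} (h : ∀ i, u i = w i)
    (p : MvPolynomial σ ℤ) :
    @aeval ℤ T σ _ _ i₁ u p = @aeval ℤ T σ _ _ i₂ w p := by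
  obtain rfl : i₁ = i₂ := Subsingleton.elim _ _
  rw [show u = w from funext h]

lemma aeval_mem {σ : Type*} [Algebra ℤ S] (A : Subring S) (u : σ → S) (hu : ∀ i, u i ∈ A) (p : MvPolynomial σ ℤ) :
    aeval u p ∈ A := by
  induction p using MvPolynomial.induction_on with
  | C r => simp
  | add a b ha hb => rw [map_add]; exact add_mem ha hb
  | mul_X a i ha => rw [map_mul, aeval_X]; exact mul_mem ha (hu i)

lemma lam_neg_succ (n : ℕ) (a : S) :
    LambdaOps.lam (n + 1) (-a) = -∑ i ∈ range (n + 1), LambdaOps.lam (i + 1) a * LambdaOps.lam (n - i) (-a) := by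
  have h := LambdaOps.lam_add (n + 1) a (-a)
  rw [add_neg_cancel, lam_zero_right (Nat.succ_ne_zero n), Finset.sum_range_succ', LambdaOps.lam_zero, one_mul,
    Nat.sub_zero] at h
  simp only [Nat.succ_sub_succ_eq_sub] at h
  linear_combination -h

/-- the elements all of whose λ-values lie in a subring -/
def goodSub (hS : IsSpecial S) (A : Subring S) : Subring S where
  carrier := {a | a ∈ A ∧ ∀ n, LambdaOps.lam n a ∈ A}
  one_mem' := ⟨A.one_mem, fun n => by
    match n with
    | 0 => rw [LambdaOps.lam_zero]; exact A.one_mem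
    | 1 => rw [LambdaOps.lam_one]; exact A.one_mem
    | n + 2 => rw [hS.lam_one_eq_zero _ (by omega)]; exact A.zero_mem⟩
  zero_mem' := ⟨A.zero_mem, fun n => by
    rcases n with - | n
    · rw [LambdaOps.lam_zero]; exact A.one_mem
    · rw [lam_zero_right (Nat.succ_ne_zero n)]; exact A.zero_mem⟩
  add_mem' {a b} ha hb := ⟨A.add_mem ha.1 hb.1, fun n => by
    rw [LambdaOps.lam_add]; exact sum_mem fun i _ => A.mul_mem (ha.2 i) (hb.2 _)⟩
  neg_mem' {a} ha := ⟨A.neg_mem ha.1, fun n => by
    induction n using Nat.strong_induction_on with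
    | _ n ih =>
      rcases n with - | n
      · rw [LambdaOps.lam_zero]; exact A.one_mem
      · rw [lam_neg_succ]; exact A.neg_mem (sum_mem fun i _ => A.mul_mem (ha.2 _) (ih _ (by omega)))⟩
  mul_mem' {a b} ha hb := ⟨A.mul_mem ha.1 hb.1, fun n => by
    rw [lam_mul_eq hS]
    refine aeval_mem A _ (fun i => ?_) _
    rcases i with i | i
    exacts [ha.2 _, hb.2 _]⟩

lemma mem_goodSub {hS : IsSpecial S} {A : Subring S} {a : S} :
    a ∈ goodSub hS A ↔ a ∈ A ∧ ∀ n, LambdaOps.lam n a ∈ A := Iff.rfl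

lemma lam_mem_goodSub (hS : IsSpecial S) {A : Subring S} {a : S} (ha : a ∈ goodSub hS A) (i : ℕ) :
    LambdaOps.lam i a ∈ goodSub hS A :=
  ⟨ha.2 i, fun n => by rw [lam_lam_eq hS]; exact aeval_mem A _ (fun j => ha.2 _) _⟩

lemma gamma_mem_goodSub (hS : IsSpecial S) {A : Subring S} {a : S} (ha : a ∈ goodSub hS A) (i : ℕ) :
    gamma i a ∈ goodSub hS A := by
  rcases eq_or_ne i 0 with rfl | hi
  · rw [gamma_zero]; exact one_mem _
  rw [gamma, if_neg hi]
  refine sum_mem fun j _ => mul_mem (natCast_mem _ _) ?_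
  rcases eq_or_ne j 0 with rfl | hj
  · rw [if_pos rfl]; exact zero_mem _
  · rw [if_neg hj]; exact lam_mem_goodSub hS ha j

/-- the elements on which a ring homomorphism commutes with all λ-operations -/
def eqSub (hS : IsSpecial S) (hT : IsSpecial T) (f : S →+* T) : Subring S where
  carrier := {a | ∀ n, f (LambdaOps.lam n a) = LambdaOps.lam n (f a)}
  one_mem' n := by
    match n with
    | 0 => simp [LambdaOps.lam_zero]
    | 1 => simp [LambdaOps.lam_one]
    | n + 2 => rw [hS.lam_one_eq_zero _ (by omega), map_one, hT.lam_one_eq_zero _ (by omega), map_zero]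
  zero_mem' n := by
    rcases n with - | n
    · simp [LambdaOps.lam_zero]
    · rw [lam_zero_right (Nat.succ_ne_zero n), map_zero, lam_zero_right (Nat.succ_ne_zero n)]
  add_mem' {a b} ha hb n := by
    rw [LambdaOps.lam_add, map_sum, map_add, LambdaOps.lam_add]
    exact sum_congr rfl fun i _ => by rw [map_mul, ha, hb]
  neg_mem' {a} ha n := by
    induction n using Nat.strong_induction_on with
    | _ n ih =>
      rcases n with - | n
      · simp [LambdaOps.lam_zero]
      · rw [lam_neg_succ, map_neg, map_sum, map_neg, lam_neg_succ]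
        congr 1
        refine sum_congr rfl fun i _ => ?_
        rw [map_mul, ha, ih _ (by omega), map_neg]
  mul_mem' {a b} ha hb n := by
    rw [lam_mul_eq hS, ringHom_aeval, map_mul, lam_mul_eq hT]
    congr 2
    funext i
    rcases i with i | i
    exacts [ha _, hb _]

lemma lam_mem_eqSub (hS : IsSpecial S) (hT : IsSpecial T) {f : S →+* T} {a : S} (ha : a ∈ eqSub hS hT f) (i : ℕ) :
    LambdaOps.lam i a ∈ eqSub hS hT f := fun n => by
  rw [lam_lam_eq hS, ringHom_aeval, ha i, lam_lam_eq hT]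
  congr 2
  funext j
  exact ha _

lemma gamma_mem_eqSub (hS : IsSpecial S) (hT : IsSpecial T) {f : S →+* T} {a : S} (ha : a ∈ eqSub hS hT f) (i : ℕ) :
    gamma i a ∈ eqSub hS hT f := by
  rcases eq_or_ne i 0 with rfl | hi
  · rw [gamma_zero]; exact one_mem _
  rw [gamma, if_neg hi]
  refine sum_mem fun j _ => mul_mem (natCast_mem _ _) ?_
  rcases eq_or_ne j 0 with rfl | hj
  · rw [if_pos rfl]; exact zero_mem _
  · rw [if_neg hj]; exact lam_mem_eqSub hS hT ha j

lemma map_gamma' {f : S →+* T} (hf : ∀ (n : ℕ) a, f (LambdaOps.lam n a) = LambdaOps.lam n (f a)) (k : ℕ) (a : S) :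
    f (gamma k a) = gamma k (f a) := by
  rcases eq_or_ne k 0 with rfl | h
  · simp [gamma]
  · rw [gamma, gamma, if_neg h, if_neg h, map_sum]
    refine sum_congr rfl fun i _ => ?_
    rw [map_mul, map_natCast]
    split_ifs
    · rw [map_zero]
    · rw [hf]

lemma lamSeries_eq_subst_gamma (x : T) :
    lamSeries x = PowerSeries.subst (hs T) (cser fun i => gamma (i + 1) x) := by
  have e : (cser fun i => gamma (i + 1) x) = PowerSeries.mk fun k => gamma k x := by
    ext k
    rcases k with - | k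
    · simp [cser, gamma_zero]
    · simp
  rw [e, mk_gamma_eq_subst, PowerSeries.subst_comp_subst_apply (hasSubst_gs T) (hasSubst_hs T), subst_hs_gs,
    PowerSeries.X_subst]

end Maps

section Base

variable (K : Type*) [CommRing K] [BinomialRing K]

/-- the rationalization of a binomial ring -/
abbrev KQ := Localization (Algebra.algebraMapSubmonoid K (nonZeroDivisors ℤ))

lemma isUnit_intCast_KQ (z : nonZeroDivisors ℤ) : IsUnit (algebraMap ℤ (KQ K) z) := by
  rw [IsScalarTower.algebraMap_apply ℤ K (KQ K)]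
  exact IsLocalization.map_units (KQ K) (⟨algebraMap ℤ K z, Algebra.mem_algebraMapSubmonoid_of_mem z⟩ :
    Algebra.algebraMapSubmonoid K (nonZeroDivisors ℤ))

/-- ℚ-algebra structure on the rationalization -/
@[reducible] def algQ : Algebra ℚ (KQ K) :=
  (IsLocalization.lift (M := nonZeroDivisors ℤ) (S := ℚ) (isUnit_intCast_KQ K)).toAlgebra

lemma algebraMap_KQ_injective : Function.Injective (algebraMap K (KQ K)) := by
  haveI : IsAddTorsionFree K := BinomialRing.toIsAddTorsionFree
  refine IsLocalization.injective (KQ K) (M := Algebra.algebraMapSubmonoid K (nonZeroDivisors ℤ)) ?_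
  rintro _ ⟨z, hz, rfl⟩
  refine mem_nonZeroDivisors_iff_right.2 fun a ha => ?_
  have ha' : z • a = 0 := by rw [zsmul_eq_mul]; first | exact ha | (rw [mul_comm]; exact ha)
  · replace ha := ha'
    exact (smul_eq_zero.1 ha).resolve_left (nonZeroDivisors.ne_zero hz)

end Base

variable (K : Type*) [CommRing K] [BinomialRing K] (ι : Type*)

attribute [local instance] algQ lamG

/-- the underlying ring of the free special λ-algebra -/
abbrev GV := MvPolynomial (ι × ℕ) K

/-- inclusion in the rational model -/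
def jV : GV K ι →+* GQ (KQ K) ι := MvPolynomial.map (algebraMap K (KQ K))

lemma jV_injective : Function.Injective (jV K ι) := MvPolynomial.map_injective _ (algebraMap_KQ_injective K)

variable {K ι}

lemma choose_rec (c : K) (n : ℕ) : Ring.choose c (n + 1) * ((n : K) + 1) = Ring.choose c n * (c - (n : K)) := by
  haveI : IsAddTorsionFree K := BinomialRing.toIsAddTorsionFree
  apply nsmul_right_injective (Nat.factorial_ne_zero n)
  have e1 := Ring.descPochhammer_eq_factorial_smul_choose c (n + 1)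
  have e2 := Ring.descPochhammer_eq_factorial_smul_choose c n
  rw [descPochhammer_succ_right, Polynomial.smeval_mul, e2] at e1
  simp only [Polynomial.smeval_sub, Polynomial.smeval_X, Polynomial.smeval_natCast, pow_zero, pow_one,
    nsmul_eq_mul, mul_one, Nat.factorial_succ, Nat.cast_mul, Nat.cast_add, Nat.cast_one] at e1 ⊢
  linear_combination -e1

lemma lam_rec_of_fixed {R : Type*} [CommRing R] [Algebra ℚ R] {ι : Type*} {a : GQ R ι} (ha : ∀ k, psiG k a = a) (n : ℕ) :
    LambdaOps.lam (n + 1) a * ((n : GQ R ι) + 1) = LambdaOps.lam n a * (a - (n : GQ R ι)) := by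
  have hl : logDerivSeries a = PowerSeries.mk fun i => (-1) ^ i * a := by
    ext i
    have := adamsOp_G (Nat.succ_pos i) a
    rw [ha, adamsOp] at this
    rw [PowerSeries.coeff_mk]
    conv_rhs => rw [← this, ← mul_assoc, ← pow_add, Even.neg_one_pow ⟨i, rfl⟩, one_mul]
  have h : (1 + PowerSeries.X) * PowerSeries.derivative (GQ R ι) (lamSeries a) = PowerSeries.C a * lamSeries a := by
    rw [logDerivSeries_spec, hl, ← mul_assoc]
    congr 1
    ext i
    rw [add_mul, one_mul, map_add, PowerSeries.coeff_mk]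
    cases i with
    | zero => simp
    | succ i => rw [PowerSeries.coeff_succ_X_mul, PowerSeries.coeff_mk, PowerSeries.coeff_succ_C]; ring
  have h2 := congrArg (PowerSeries.coeff n) h
  rw [add_mul, one_mul, map_add, PowerSeries.coeff_derivative, PowerSeries.coeff_C_mul, coeff_lamSeries, coeff_lamSeries] at h2
  rcases n with - | n
  · simp at h2 ⊢; linear_combination h2
  · rw [PowerSeries.coeff_succ_X_mul, PowerSeries.coeff_derivative, coeff_lamSeries] at h2
    push_cast at h2 ⊢
    linear_combination h2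

lemma lam_C (c : K) (n : ℕ) : LambdaOps.lam n (jV K ι (C c)) = jV K ι (C (Ring.choose c n)) := by
  induction n with
  | zero => rw [LambdaOps.lam_zero, Ring.choose_zero_right, map_one, map_one]
  | succ n ih =>
    refine htfG n _ _ ?_
    rw [lam_rec_of_fixed (fun k => by rw [jV, map_C]; exact AlgHom.commutes _ _) n, ih,
      show ((n : GQ (KQ K) ι) + 1) = jV K ι (C ((n : K) + 1)) by simp,
      show ((n : GQ (KQ K) ι)) = jV K ι (C (n : K)) by simp, ← map_sub, ← map_sub, ← map_mul, ← map_mul, ← map_mul,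
      ← map_mul, choose_rec]

lemma lamSeries_X_mem (l : ι) (n : ℕ) : LambdaOps.lam n (grp l 0 : GQ (KQ K) ι) ∈ (jV K ι).range := by
  refine ⟨PowerSeries.coeff n (PowerSeries.subst (hs (GV K ι)) (cser fun i => (X (l, i) : GV K ι))), ?_⟩
  rw [← PowerSeries.coeff_map, map_subst_hs, map_cser, ← coeff_lamSeries, lamSeries_grp]
  congr 4
  funext i
  simp [jV, grp]

lemma mem_good (v : GV K ι) : jV K ι v ∈ goodSub isSpecial_G (jV K ι).range := by
  induction v using MvPolynomial.induction_on with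
  | C c => exact ⟨⟨_, rfl⟩, fun n => ⟨_, (lam_C c n).symm⟩⟩
  | add a b ha hb => rw [map_add]; exact add_mem ha hb
  | mul_X a p ha =>
    rw [map_mul]
    refine mul_mem ha ?_
    obtain ⟨l, i⟩ := p
    rw [show jV K ι (X (l, i)) = grp l i by simp [jV, grp], ← gamma_grp]
    exact gamma_mem_goodSub _ (A := (jV K ι).range) ⟨⟨X (l, 0), by simp [jV, grp]⟩, lamSeries_X_mem l⟩ _

variable (K ι)

lemma exists_lamV (n : ℕ) (v : GV K ι) : ∃ w, jV K ι w = LambdaOps.lam n (jV K ι v) := (mem_good v).2 n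

/-- the λ-structure -/
@[reducible] def lamV : LambdaOps (GV K ι) where
  lam n v := (exists_lamV K ι n v).choose
  lam_zero v := jV_injective K ι (by rw [(exists_lamV K ι 0 v).choose_spec, LambdaOps.lam_zero, map_one])
  lam_one v := jV_injective K ι (by rw [(exists_lamV K ι 1 v).choose_spec, LambdaOps.lam_one])
  lam_add k x y := jV_injective K ι (by
    rw [(exists_lamV K ι k _).choose_spec, map_add, LambdaOps.lam_add, map_sum]
    exact sum_congr rfl fun i _ => by
      rw [map_mul, (exists_lamV K ι i x).choose_spec, (exists_lamV K ι (k - i) y).choose_spec])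

attribute [local instance] lamV

lemma jV_lam (n : ℕ) (v : GV K ι) : jV K ι (LambdaOps.lam n v) = LambdaOps.lam n (jV K ι v) :=
  (exists_lamV K ι n v).choose_spec

lemma jV_gamma (k : ℕ) (v : GV K ι) : jV K ι (gamma k v) = gamma k (jV K ι v) := map_gamma' (jV_lam K ι) k v

lemma isSpecial_V : IsSpecial (GV K ι) where
  lam_one_eq_zero n hn := jV_injective K ι (by rw [jV_lam, map_one, map_zero, isSpecial_G.lam_one_eq_zero n hn])
  lam_mul n P hP x y := jV_injective K ι (by
    rw [jV_lam, map_mul, isSpecial_G.lam_mul n P hP, ringHom_aeval]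
    refine aeval_congr_int _ _ (fun i => ?_) _
    rcases i with i | i <;> exact (jV_lam K ι _ _).symm)
  lam_lam i j Q hQ x := jV_injective K ι (by
    rw [jV_lam, jV_lam, isSpecial_G.lam_lam i j Q hQ, ringHom_aeval]
    exact aeval_congr_int _ _ (fun k => (jV_lam K ι _ _).symm) _)

variable {K ι}

lemma gamma_X (l : ι) (i : ℕ) : gamma (i + 1) (X (l, 0) : GV K ι) = X (l, i) := by
  apply jV_injective K ι
  rw [jV_gamma, show jV K ι (X (l, 0)) = grp l 0 by simp [jV, grp], gamma_grp]
  simp [jV, grp]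

section Hom

variable [LambdaOps K] {A : Type*} [CommRing A] [LambdaOps A] [Algebra K A] (x : ι → A)

/-- evaluation `g_{l,i} ↦ γ^{i+1}(x_l)` -/
def evV : GV K ι →ₐ[K] A := aeval fun p => gamma (p.2 + 1) (x p.1)

lemma evV_X (l : ι) (i : ℕ) : evV x (X (l, i) : GV K ι) = gamma (i + 1) (x l) := by simp [evV]

variable (hKb : IsBinomial K) (hAlg : IsLambdaAlg K A) (hA : IsSpecial A)
include hKb hAlg hA

lemma evV_lam (n : ℕ) (v : GV K ι) : evV x (LambdaOps.lam n v) = LambdaOps.lam n (evV x v) := by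
  suffices v ∈ eqSub (isSpecial_V K ι) hA (evV x : GV K ι →ₐ[K] A).toRingHom from this n
  induction v using MvPolynomial.induction_on with
  | C c =>
    intro m
    show evV x (LambdaOps.lam m (C c)) = LambdaOps.lam m (evV x (C c))
    have : LambdaOps.lam m (C c : GV K ι) = C (Ring.choose c m) := jV_injective K ι (by rw [jV_lam, lam_C])
    rw [this, evV, aeval_C, aeval_C, ← hAlg, hKb]
  | add a b ha hb => exact add_mem ha hb
  | mul_X a p ha =>
    refine mul_mem ha ?_
    obtain ⟨l, i⟩ := p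
    rw [← gamma_X l i]
    refine gamma_mem_eqSub _ _ (fun m => ?_) _
    show evV x (LambdaOps.lam m (X (l, 0))) = LambdaOps.lam m (evV x (X (l, 0)))
    have hser : lamSeries (X (l, 0) : GV K ι) = PowerSeries.subst (hs (GV K ι)) (cser fun i => (X (l, i) : GV K ι)) := by
      rw [lamSeries_eq_subst_gamma]; congr 2; funext i; exact gamma_X l i
    rw [evV_X, gamma_one, ← coeff_lamSeries, ← coeff_lamSeries m (x l), hser]
    show (evV x : GV K ι →ₐ[K] A).toRingHom _ = _
    rw [← PowerSeries.coeff_map, map_subst_hs, map_cser, lamSeries_eq_subst_gamma]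
    congr 4
    funext i
    exact evV_X x l i

lemma evV_gamma (k : ℕ) (v : GV K ι) : evV x (gamma k v) = gamma k (evV x v) :=
  map_gamma' (f := (evV x : GV K ι →ₐ[K] A).toRingHom) (evV_lam x hKb hAlg hA) k v

end Hom

variable (K ι)

/-- weight filtration -/
def WV (n : ℕ) : Ideal (GV K ι) := (WG (KQ K) ι n).comap (jV K ι)

variable {K ι}

lemma mem_WV {n : ℕ} {v : GV K ι} : v ∈ WV K ι n ↔ ∀ e ∈ v.support, n ≤ Finsupp.weight wG e := by
  rw [WV, Ideal.mem_comap, jV, mem_WG, support_map_of_injective _ (algebraMap_KQ_injective K)]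

lemma WV_anti {m n : ℕ} (h : m ≤ n) : WV K ι n ≤ WV K ι m := Ideal.comap_mono (WG_anti h)

lemma WV_mul_mem {m n : ℕ} {a b : GV K ι} (ha : a ∈ WV K ι m) (hb : b ∈ WV K ι n) : a * b ∈ WV K ι (m + n) := by
  rw [WV, Ideal.mem_comap, map_mul]; exact WG_mul_mem ha hb

lemma X_mem_WV (l : ι) (i : ℕ) : (X (l, i) : GV K ι) ∈ WV K ι (i + 1) := by
  rw [WV, Ideal.mem_comap, show jV K ι (X (l, i)) = grp l i by simp [jV, grp]]
  exact grp_mem l i

lemma gamma_mem_WV {v : GV K ι} (hv : v ∈ WV K ι 1) (i : ℕ) : gamma i v ∈ WV K ι i := by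
  rw [WV, Ideal.mem_comap, jV_gamma]; exact gamma_mem_WG hv i

lemma gamma_sub_mem_WV {m : ℕ} (hm : 1 ≤ m) {v : GV K ι} (hv : v ∈ WV K ι m) :
    gamma m v - (-1 : GV K ι) ^ (m - 1) * ((m - 1).factorial : GV K ι) * v ∈ WV K ι (m + 1) := by
  rw [WV, Ideal.mem_comap, map_sub, jV_gamma, map_mul, map_mul, map_pow, map_neg, map_one, map_natCast]
  exact gamma_sub_mem_WG hm hv

lemma mem_WV_one {v : GV K ι} : v ∈ WV K ι 1 ↔ constantCoeff v = 0 := by
  rw [mem_WV]
  constructor
  · intro h
    by_contra hne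
    have := h 0 (mem_support_iff.2 hne)
    simp at this
  · intro h e he
    rcases eq_or_ne e 0 with rfl | hne
    · exact absurd h (mem_support_iff.1 he)
    · obtain ⟨p, hp⟩ := Finsupp.ne_iff.1 hne
      rw [Finsupp.coe_zero, Pi.zero_apply] at hp
      exact (Nat.le_add_left 1 p.2).trans (Finsupp.le_weight_of_ne_zero' wG hp)

/-- the variables `γ^j x_l`, `j ≥ d`, as a set -/
def tset (l : ι) (d : ℕ) : Set (ι × ℕ) := {p | p.1 = l ∧ d ≤ p.2}

variable (K) in
/-- the ideal they generate -/
def TV (l : ι) (d : ℕ) : Ideal (GV K ι) := Ideal.span (X '' tset l d)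

lemma mem_TV {l : ι} {d : ℕ} {v : GV K ι} : v ∈ TV K l d ↔ jV K ι v ∈ TG (KQ K) l d := by
  rw [TV, TG, mem_ideal_span_X_image, mem_ideal_span_X_image, jV,
    support_map_of_injective _ (algebraMap_KQ_injective K)]
  rfl

lemma gamma_mem_TV {l : ι} {d : ℕ} {v : GV K ι} (hv : v ∈ TV K l d) (n : ℕ) (hn : 1 ≤ n) :
    gamma n v ∈ TV K l d := by
  rw [mem_TV, jV_gamma]; exact gamma_mem_TG (mem_TV.1 hv) n hn

lemma lam_mem_TV {l : ι} {d : ℕ} {v : GV K ι} (hv : v ∈ TV K l d) (n : ℕ) (hn : 1 ≤ n) :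
    LambdaOps.lam n v ∈ TV K l d := by
  rw [mem_TV, jV_lam]; exact lam_mem_TG (mem_TV.1 hv) n hn

open Classical in
/-- killing a set of variables -/
def killV (s : Set (ι × ℕ)) : GV K ι →ₐ[K] GV K ι := aeval fun p => if p ∈ s then 0 else X p

lemma killV_mem_WV (s : Set (ι × ℕ)) {n : ℕ} {v : GV K ι} (hv : v ∈ WV K ι n) : killV s v ∈ WV K ι n := by
  classical
  rw [v.as_sum, map_sum]
  refine sum_mem fun e he => ?_
  rw [killV, aeval_monomial]
  refine Ideal.mul_mem_left _ _ (WV_anti (mem_WV.1 hv e he) ?_)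
  clear he
  induction e using Finsupp.induction with
  | zero => rw [map_zero, WV, Ideal.mem_comap]; exact mem_WG_zero _
  | single_add p m e hp hm ih =>
    rw [map_add, Finsupp.prod_add_index' (fun i => pow_zero _) (fun i a b => pow_add _ a b),
      Finsupp.prod_single_index (h := fun i n => (if i ∈ s then (0 : GV K ι) else X i) ^ n) (pow_zero _)]
    refine WV_mul_mem ?_ ih
    rw [Finsupp.weight_single, smul_eq_mul]
    clear hm ih
    induction m with
    | zero => rw [zero_mul, WV, Ideal.mem_comap]; exact mem_WG_zero _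
    | succ m ihm =>
      rw [pow_succ, add_mul, one_mul]
      refine WV_mul_mem ihm ?_
      split_ifs
      · exact zero_mem _
      · exact X_mem_WV p.1 p.2

lemma exists_killV_eq (l : ι) (d : ℕ) {v : GV K ι} (hv : v ∈ TV K l d) :
    ∃ Y, killV (tset l (d + 1)) v = Y * X (l, d) := by
  classical
  suffices TV K l d ≤ (Ideal.span {X (l, d)}).comap (killV (tset l (d + 1)) : GV K ι →ₐ[K] GV K ι).toRingHom by
    obtain ⟨Y, hY⟩ := Ideal.mem_span_singleton'.1 (this hv)
    exact ⟨Y, hY.symm⟩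
  rw [TV, Ideal.span_le]
  rintro _ ⟨⟨l', i⟩, ⟨rfl, hi⟩, rfl⟩
  show killV (tset l' (d + 1)) (X (l', i)) ∈ Ideal.span {(X (l', d) : GV K ι)}
  rw [killV, aeval_X]
  split_ifs with h
  · exact zero_mem _
  · have : i = d := by
      by_contra hne
      exact h ⟨rfl, by dsimp at hi ⊢; omega⟩
    subst this
    exact Ideal.subset_span rfl

lemma mem_WV_of_mul_X {l : ι} {d n : ℕ} {Y : GV K ι} (h : Y * X (l, d) ∈ WV K ι (n + (d + 1))) : Y ∈ WV K ι n := by
  classical
  rw [mem_WV] at h ⊢
  intro e he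
  have := h (e + Finsupp.single (l, d) 1) (by rw [support_mul_X]; exact Finset.mem_map.2 ⟨e, he, rfl⟩)
  rw [map_add, Finsupp.weight_single, one_smul, wG] at this
  omega

section Fil

variable [LambdaOps K] {A : Type*} [CommRing A] [LambdaOps A] [Algebra K A] (ε : A →ₐ[K] K)

lemma mul_mem_gammaFil {m n : ℕ} {a b : A} (ha : a ∈ gammaFil (ε : A →+* K) m) (hb : b ∈ gammaFil (ε : A →+* K) n) :
    a * b ∈ gammaFil (ε : A →+* K) (m + n) := by
  refine Submodule.span_induction (fun y hy => ?_) (by rw [zero_mul]; exact zero_mem _)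
    (fun y z _ _ hy hz => by rw [add_mul]; exact add_mem hy hz)
    (fun c y _ hy => by rw [smul_eq_mul, mul_assoc]; exact Ideal.mul_mem_left _ _ hy) ha
  refine Submodule.span_induction (fun z hz => ?_) (by rw [mul_zero]; exact zero_mem _)
    (fun z z' _ _ hz hz' => by rw [mul_add]; exact add_mem hz hz')
    (fun c z _ hz => by rw [smul_eq_mul, mul_left_comm]; exact Ideal.mul_mem_left _ _ hz) hb
  obtain ⟨l, h1, h2, rfl⟩ := hy
  obtain ⟨l', h1', h2', rfl⟩ := hz
  refine Ideal.subset_span ⟨l ++ l', ?_, ?_, by rw [List.map_append, List.prod_append]⟩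
  · intro p hp; rcases List.mem_append.1 hp with h | h
    exacts [h1 p h, h1' p h]
  · rw [List.map_append, List.sum_append]; omega

lemma gammaFil_anti {m n : ℕ} (h : m ≤ n) : gammaFil (ε : A →+* K) n ≤ gammaFil (ε : A →+* K) m :=
  Ideal.span_mono fun _ ⟨l, h1, h2, h3⟩ => ⟨l, h1, h.trans h2, h3⟩

lemma one_mem_gammaFil_zero : (1 : A) ∈ gammaFil (ε : A →+* K) 0 :=
  Ideal.subset_span ⟨[], by simp, by simp, by simp⟩

lemma gamma_mem_gammaFil {a : A} (ha : ε a = 0) (k : ℕ) : gamma k a ∈ gammaFil (ε : A →+* K) k :=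
  Ideal.subset_span ⟨[(k, a)], by simpa using ha, by simp, by simp⟩

/-- a criterion for mapping the weight filtration into a filtration of ideals -/
lemma evV_mem_of_mem_WV (x : ι → A) (J : ℕ → Ideal A) (h0 : (1 : A) ∈ J 0) (hanti : ∀ {m n}, m ≤ n → J n ≤ J m)
    (hmul : ∀ {m n a b}, a ∈ J m → b ∈ J n → a * b ∈ J (m + n))
    (hgen : ∀ l i, gamma (i + 1) (x l) ∈ J (i + 1)) {n : ℕ} {v : GV K ι} (hv : v ∈ WV K ι n) : evV x v ∈ J n := by
  rw [v.as_sum, map_sum]
  refine sum_mem fun e he => ?_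
  rw [evV, aeval_monomial]
  refine Ideal.mul_mem_left _ _ (hanti (mem_WV.1 hv e he) ?_)
  rw [Finsupp.weight_apply, Finsupp.prod, Finsupp.sum]
  clear he
  classical
  induction e.support using Finset.induction_on with
  | empty => simpa using h0
  | insert i s hi ih =>
    rw [prod_insert hi, sum_insert hi]
    refine hmul ?_ ih
    induction e i with
    | zero => simpa using h0
    | succ m ihm => rw [pow_succ, succ_nsmul]; exact hmul ihm (hgen i.1 i.2)

lemma evV_mem_gammaFil (x : ι → A) (hx : ∀ l, ε (x l) = 0) {n : ℕ} {v : GV K ι} (hv : v ∈ WV K ι n) :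
    evV x v ∈ gammaFil (ε : A →+* K) n :=
  evV_mem_of_mem_WV x _ (one_mem_gammaFil_zero ε) (fun h => gammaFil_anti ε h) (fun ha hb => mul_mem_gammaFil ε ha hb)
    (fun l i => gamma_mem_gammaFil ε (hx l) _) hv

variable (hKb : IsBinomial K) (hAlg : IsLambdaAlg K A) (hA : IsSpecial A)
  (hεlam : ∀ (n : ℕ) (a : A), ε (LambdaOps.lam n a) = LambdaOps.lam n (ε a))
  (x : ι → A) (hx : ∀ l, ε (x l) = 0)
include hεlam hx

lemma eps_evV (v : GV K ι) : ε (evV x v) = constantCoeff v := by
  induction v using MvPolynomial.induction_on with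
  | C c => simp [evV]
  | add a b ha hb => simp only [map_add, ha, hb]
  | mul_X a p ha =>
    obtain ⟨l, i⟩ := p
    rw [map_mul, map_mul, map_mul, constantCoeff_X, mul_zero, evV_X,
      show ε (gamma (i + 1) (x l)) = gamma (i + 1) (ε (x l)) from map_gamma' (f := (ε : A →+* K)) hεlam _ _, hx,
      show gamma (i + 1) (0 : K) = 0 by
        rw [gamma, if_neg (Nat.succ_ne_zero i)]
        exact sum_eq_zero fun j _ => by rcases eq_or_ne j 0 with rfl | hj <;> simp [*, lam_zero_right],
      mul_zero]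

include hKb hAlg hA

lemma exists_pre (hsurj : Function.Surjective (evV x : GV K ι → A)) {n : ℕ} {z : A}
    (hz : z ∈ gammaFil (ε : A →+* K) n) : ∃ v ∈ WV K ι n, evV x v = z := by
  refine Submodule.span_induction (fun y hy => ?_) ⟨0, zero_mem _, map_zero _⟩
    (fun y y' _ _ ⟨v, hv, hy⟩ ⟨v', hv', hy'⟩ => ⟨v + v', add_mem hv hv', by rw [map_add, hy, hy']⟩)
    (fun c y _ ⟨v, hv, hy⟩ => ?_) hz
  · obtain ⟨l, h1, h2, rfl⟩ := hy
    suffices ∃ v ∈ WV K ι (l.map Prod.fst).sum, evV x v = (l.map fun p => gamma p.1 p.2).prod by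
      obtain ⟨v, hv, hy⟩ := this; exact ⟨v, WV_anti h2 hv, hy⟩
    clear h2
    induction l with
    | nil => exact ⟨1, by rw [WV, Ideal.mem_comap]; exact mem_WG_zero _, by simp⟩
    | cons a l ih =>
      obtain ⟨v, hv, hv'⟩ := ih fun b hb => h1 b (List.mem_cons_of_mem _ hb)
      obtain ⟨w, hw⟩ := hsurj a.2
      have hw0 : w ∈ WV K ι 1 := by
        rw [mem_WV_one, ← eps_evV ε hεlam x hx, hw]; exact h1 a List.mem_cons_self
      refine ⟨gamma a.1 w * v, ?_, ?_⟩
      · simpa using WV_mul_mem (gamma_mem_WV hw0 a.1) hv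
      · rw [map_mul, evV_gamma x hKb hAlg hA, hw, hv']; simp
  · obtain ⟨w, hw⟩ := hsurj c
    exact ⟨w * v, Ideal.mul_mem_left _ _ hv, by rw [map_mul, hw, hy]; rfl⟩

end Fil

end Groth.Agent.LamR
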