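import Groth.Agent.LamR.Free

/-!
# Consequences of the free model: γ-filtrations of augmented λ-algebras
-/

open Finset MvPolynomial
open scoped nonZeroDivisors

noncomputable section

namespace Groth.Agent.LamR

open LambdaRing

attribute [local instance] lamV

section Gen

variable {S : Type*} [CommRing S] [LambdaOps S]

lemma gamma_top_eq_alt (h1 : ∀ j : ℕ, 2 ≤ j → LambdaOps.lam j (1 : S) = 0) (n : ℕ) (y : S) :
    gamma n (y - (n : S)) = (-1) ^ n * ∑ i ∈ range (n + 1), (-1) ^ i * LambdaOps.lam i y := by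
  rw [gamma_eq_lam h1, sub_add_cancel, lam_eq_alternating h1 n (y - 1), sub_add_cancel]

lemma gamma_sub_natCast_eq_zero (h1 : ∀ j : ℕ, 2 ≤ j → LambdaOps.lam j (1 : S) = 0) {d : ℕ} {N : S}
    (hN : ∀ i : ℕ, d < i → LambdaOps.lam i N = 0) {k : ℕ} (hk : d < k) : gamma k (N - (d : S)) = 0 := by
  rw [gamma_eq_lam h1]
  obtain ⟨t, rfl⟩ : ∃ t, k = d + 1 + t := ⟨k - d - 1, by omega⟩
  rw [show N - (d : S) + ((d + 1 + t : ℕ) : S) - 1 = N + (t : S) by push_cast; ring, LambdaOps.lam_add]
  refine sum_eq_zero fun i hi => ?_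
  rcases Nat.lt_or_ge d i with h | h
  · rw [hN i h, zero_mul]
  · rw [lam_natCast h1, Nat.choose_eq_zero_of_lt (by omega), Nat.cast_zero, mul_zero]

end Gen

variable {K : Type*} [CommRing K] [BinomialRing K] [LambdaOps K] {A : Type*} [CommRing A] [LambdaOps A] [Algebra K A]

lemma evV_killV {ι : Type*} (x : ι → A) {s : Set (ι × ℕ)} (h : ∀ p ∈ s, gamma (p.2 + 1) (x p.1) = 0)
    (v : GV K ι) : evV x (killV s v) = evV x v := by
  rw [← AlgHom.comp_apply]
  refine AlgHom.congr_fun (MvPolynomial.algHom_ext fun p => ?_) v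
  simp only [AlgHom.comp_apply, killV, evV, aeval_X]
  split_ifs with hp
  · rw [map_zero, h p hp]
  · rw [aeval_X]

lemma evV_ker_surjective (ε : A →ₐ[K] K) :
    Function.Surjective (evV (fun a : {a : A // ε a = 0} => (a : A)) : GV K {a : A // ε a = 0} → A) := by
  intro a
  refine ⟨C (ε a) + X (⟨a - algebraMap K A (ε a), by simp⟩, 0), ?_⟩
  rw [map_add, evV_X, gamma_one, evV, aeval_C]
  simp

variable (hKb : IsBinomial K) (hA : IsSpecial A) (ε : A →ₐ[K] K) (hε : IsAugLambdaAlg K A ε)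
include hKb hA hε

theorem gamma_sub_factorial_mem {m : ℕ} (hm : 1 ≤ m) {z : A} (hz : z ∈ gammaFil (ε : A →+* K) m) :
    gamma m z - (-1 : A) ^ (m - 1) * ((m - 1).factorial : A) * z ∈ gammaFil (ε : A →+* K) (m + 1) := by
  obtain ⟨v, hv, rfl⟩ := exists_pre ε hKb hε.isLambdaAlg hA hε.map_lam _ (fun a => a.2) (evV_ker_surjective ε) hz
  have := evV_mem_gammaFil ε (fun a : {a : A // ε a = 0} => (a : A)) (fun a => a.2) (gamma_sub_mem_WV hm hv)
  rwa [map_sub, evV_gamma _ hKb hε.isLambdaAlg hA, map_mul, map_mul, map_pow, map_neg, map_one, map_natCast] at this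

theorem mem_gammaFil_of_mul_eq {d : ℕ} (hd : 1 ≤ d) {N : A} (hN : ∀ k : ℕ, d < k → LambdaOps.lam k N = 0)
    (hNε : ε N = (d : K)) (hnzd : (∑ j ∈ range (d + 1), (-1 : A) ^ j * LambdaOps.lam j N) ∈ A⁰)
    {p : ℕ} (hp : 1 ≤ p) {x y : A}
    (hy : y * (∑ j ∈ range (d + 1), (-1 : A) ^ j * LambdaOps.lam j N) =
      gamma p (x * (∑ j ∈ range (d + 1), (-1 : A) ^ j * LambdaOps.lam j N))) :
    y ∈ gammaFil (ε : A →+* K) (p - d) := by
  rcases Nat.le_total p d with hpd | hpd
  · rw [Nat.sub_eq_zero_of_le hpd, ← mul_one y]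
    exact Ideal.mul_mem_left _ _ (one_mem_gammaFil_zero ε)
  set f : {a : A // ε a = 0} → A := fun a => a.1
  have hsurj := evV_ker_surjective ε
  obtain ⟨vx, rfl⟩ := hsurj x
  let n0 : {a : A // ε a = 0} := ⟨N - (d : A), by rw [map_sub, map_natCast, hNε, sub_self]⟩
  obtain ⟨e, rfl⟩ : ∃ e, d = e + 1 := ⟨d - 1, by omega⟩
  have hΛ : evV f (C ((-1) ^ (e + 1)) * X (n0, e) : GV K _) = ∑ j ∈ range (e + 1 + 1), (-1 : A) ^ j * LambdaOps.lam j N := by
    rw [map_mul, evV_X, show f n0 = N - ((e + 1 : ℕ) : A) from rfl, gamma_top_eq_alt hA.lam_one_eq_zero, evV, aeval_C,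
      map_pow, map_neg, map_one, ← mul_assoc, ← pow_add, Even.neg_one_pow ⟨_, rfl⟩, one_mul]
  set v : GV K {a : A // ε a = 0} := vx * C ((-1) ^ (e + 1)) * X (n0, e) with hv
  have hvT : v ∈ TV K n0 e := Ideal.mul_mem_left _ _ (Ideal.subset_span ⟨(n0, e), ⟨rfl, le_rfl⟩, rfl⟩)
  have hvW : v ∈ WV K _ 1 := Ideal.mul_mem_left _ _ (WV_anti (Nat.le_add_left 1 e) (X_mem_WV n0 e))
  obtain ⟨Y, hY⟩ := exists_killV_eq n0 e (gamma_mem_TV hvT p hp)
  have hYW : Y * X (n0, e) ∈ WV K _ p := hY ▸ killV_mem_WV _ (gamma_mem_WV hvW p)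
  have hYW' : Y ∈ WV K _ (p - (e + 1)) := mem_WV_of_mul_X (by rwa [Nat.sub_add_cancel hpd])
  have hev : evV f v = evV f vx * ∑ j ∈ range (e + 1 + 1), (-1 : A) ^ j * LambdaOps.lam j N := by
    rw [hv, mul_assoc, map_mul, hΛ]
  have hkill := congrArg (evV f) hY
  rw [evV_killV f (fun q hq => by
      obtain ⟨hq1, hq2⟩ := hq
      rw [hq1]; exact gamma_sub_natCast_eq_zero hA.lam_one_eq_zero hN (by omega)),
    evV_gamma _ hKb hε.isLambdaAlg hA, hev, ← hy] at hkill
  have : y = evV f (C ((-1) ^ (e + 1)) * Y : GV K _) := by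
    rw [← mul_cancel_right_mem_nonZeroDivisors hnzd, hkill, ← hΛ, ← map_mul]
    congr 1
    have : (C ((-1 : K) ^ (e + 1)) : GV K {a : A // ε a = 0}) * C ((-1) ^ (e + 1)) = 1 := by
      rw [← map_mul, ← pow_add, Even.neg_one_pow ⟨_, rfl⟩, map_one]
    linear_combination -(Y * X (n0, e)) * this
  rw [this]
  exact evV_mem_gammaFil ε f (fun a => a.2) (Ideal.mul_mem_left _ _ hYW')

theorem sub_factorial_mul_mem {d : ℕ} (hd : 1 ≤ d) {N : A} (hN : ∀ k : ℕ, d < k → LambdaOps.lam k N = 0)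
    (hNε : ε N = (d : K)) (hnzd : (∑ j ∈ range (d + 1), (-1 : A) ^ j * LambdaOps.lam j N) ∈ A⁰)
    {i : ℕ} {x : A} (hx : x ∈ gammaFil (ε : A →+* K) i) {y : A}
    (hy : y * (∑ j ∈ range (d + 1), (-1 : A) ^ j * LambdaOps.lam j N) =
      gamma (d + i) (x * (∑ j ∈ range (d + 1), (-1 : A) ^ j * LambdaOps.lam j N))) :
    y - (-1 : A) ^ (d + i - 1) * ((d + i - 1).factorial : A) * x ∈ gammaFil (ε : A →+* K) (i + 1) := by
  set f : {a : A // ε a = 0} → A := fun a => a.1
  obtain ⟨vx, hvx, rfl⟩ := exists_pre ε hKb hε.isLambdaAlg hA hε.map_lam f (fun a => a.2) (evV_ker_surjective ε) hx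
  let n0 : {a : A // ε a = 0} := ⟨N - (d : A), by rw [map_sub, map_natCast, hNε, sub_self]⟩
  obtain ⟨e, rfl⟩ : ∃ e, d = e + 1 := ⟨d - 1, by omega⟩
  set sg : GV K {a : A // ε a = 0} := C ((-1) ^ (e + 1)) with hsg
  have hsq : sg * sg = 1 := by rw [hsg, ← map_mul, ← pow_add, Even.neg_one_pow ⟨_, rfl⟩, map_one]
  have hΛ : evV f (sg * X (n0, e)) = ∑ j ∈ range (e + 1 + 1), (-1 : A) ^ j * LambdaOps.lam j N := by
    rw [map_mul, evV_X, show f n0 = N - ((e + 1 : ℕ) : A) from rfl, gamma_top_eq_alt hA.lam_one_eq_zero, hsg, evV, aeval_C,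
      map_pow, map_neg, map_one, ← mul_assoc, ← pow_add, Even.neg_one_pow ⟨_, rfl⟩, one_mul]
  set m := e + 1 + i with hm
  set c : GV K {a : A // ε a = 0} := (-1) ^ (m - 1) * ((m - 1).factorial : GV K _) with hc
  set v := vx * sg * X (n0, e) with hv
  have hvT : v ∈ TV K n0 e := Ideal.mul_mem_left _ _ (Ideal.subset_span ⟨(n0, e), ⟨rfl, le_rfl⟩, rfl⟩)
  have hvW : v ∈ WV K _ m := by
    have := WV_mul_mem (Ideal.mul_mem_right sg _ hvx) (X_mem_WV (K := K) n0 e)
    rwa [show i + (e + 1) = m by omega] at this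
  obtain ⟨Y, hY⟩ := exists_killV_eq n0 e (gamma_mem_TV hvT m (by omega))
  set s := tset n0 (e + 1) with hs
  have hev : ∀ w : GV K _, evV f (killV s w) = evV f w := evV_killV f (fun q hq => by
      obtain ⟨hq1, hq2⟩ := hq
      rw [hq1]; exact gamma_sub_natCast_eq_zero hA.lam_one_eq_zero hN (by omega))
  have hkX : killV s (X (n0, e) : GV K _) = X (n0, e) := by
    rw [killV, aeval_X, if_neg (fun h => by have := h.2; dsimp at this; omega)]
  have hlead := killV_mem_WV s (gamma_sub_mem_WV (show 1 ≤ m by omega) hvW)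
  rw [← hc] at hlead
  have hkc : killV s c = c := by rw [hc, map_mul, map_pow, map_neg, map_one, map_natCast]
  clear_value c
  have e1 : killV s (gamma m v - c * v) = (Y - c * killV s vx * sg) * X (n0, e) := by
    rw [map_sub, hY, map_mul, hv, map_mul, map_mul, hkX,
      hkc,
      show killV s sg = sg by rw [hsg, killV, aeval_C]; rfl]
    ring
  rw [e1] at hlead
  have hW := Ideal.mul_mem_left (WV K _ (i + 1)) sg
    (mem_WV_of_mul_X (n := i + 1) (by rwa [show i + 1 + (e + 1) = m + 1 by omega]))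
  have hkill := congrArg (evV f) hY
  rw [hev, evV_gamma _ hKb hε.isLambdaAlg hA, hv, mul_assoc, map_mul, hΛ, ← hy] at hkill
  have hy' : y = evV f (sg * Y) := by
    rw [← mul_cancel_right_mem_nonZeroDivisors hnzd, hkill, ← hΛ, ← map_mul]
    congr 1
    linear_combination -(Y * X (n0, e)) * hsq
  have key : y - (-1 : A) ^ (m - 1) * ((m - 1).factorial : A) * evV f vx = evV f (sg * (Y - c * killV s vx * sg)) := by
    rw [hy', ← hev vx, show (-1 : A) ^ (m - 1) * ((m - 1).factorial : A) = evV f c by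
      rw [hc, map_mul, map_pow, map_neg, map_one, map_natCast], ← map_mul, ← map_sub]
    congr 1
    linear_combination (c * killV s vx) * hsq
  rw [key]
  exact evV_mem_gammaFil ε f (fun a => a.2) hW

theorem gammaFil_eq_span_monomials {n : ℕ} {x : A} (hx : ε x = 0) (hγ : ∀ k : ℕ, n < k → gamma k x = 0)
    (hgen : Algebra.adjoin K (Set.range fun j : Fin n => gamma ((j : ℕ) + 1) x) = ⊤) (k : ℕ) :
    gammaFil (ε : A →+* K) k =
      Ideal.span {m : A | ∃ e : Fin n → ℕ, k ≤ ∑ j : Fin n, ((j : ℕ) + 1) * e j ∧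
        m = ∏ j : Fin n, gamma ((j : ℕ) + 1) x ^ e j} := by
  set J : ℕ → Ideal A := fun k => Ideal.span {m : A | ∃ e : Fin n → ℕ, k ≤ ∑ j : Fin n, ((j : ℕ) + 1) * e j ∧
        m = ∏ j : Fin n, gamma ((j : ℕ) + 1) x ^ e j}
  let f : Unit → A := fun _ => x
  have hf : ∀ l : Unit, ε (f l) = 0 := fun _ => hx
  have hsurj : Function.Surjective (evV f : GV K Unit → A) := by
    rw [← AlgHom.range_eq_top, eq_top_iff, ← hgen, Algebra.adjoin_le_iff]
    rintro _ ⟨j, rfl⟩
    exact ⟨X ((), (j : ℕ)), evV_X f () j⟩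
  apply le_antisymm
  · intro z hz
    obtain ⟨v, hv, rfl⟩ := exists_pre ε hKb hε.isLambdaAlg hA hε.map_lam f hf hsurj hz
    refine evV_mem_of_mem_WV f J (Ideal.subset_span ⟨0, by simp, by simp⟩)
      (fun h => Ideal.span_mono fun _ ⟨e, he, hm⟩ => ⟨e, h.trans he, hm⟩) (fun {a b u w} hu hw => ?_) (fun l i => ?_) hv
    · refine Submodule.span_induction (fun u' hu' => ?_) (by rw [zero_mul]; exact zero_mem _)
        (fun _ _ _ _ h h' => by rw [add_mul]; exact add_mem h h')
        (fun c _ _ h => by rw [smul_eq_mul, mul_assoc]; exact Ideal.mul_mem_left _ _ h) hu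
      refine Submodule.span_induction (fun w' hw' => ?_) (by rw [mul_zero]; exact zero_mem _)
        (fun _ _ _ _ h h' => by rw [mul_add]; exact add_mem h h')
        (fun c _ _ h => by rw [smul_eq_mul, mul_left_comm]; exact Ideal.mul_mem_left _ _ h) hw
      obtain ⟨e1, h1, rfl⟩ := hu'
      obtain ⟨e2, h2, rfl⟩ := hw'
      refine Ideal.subset_span ⟨e1 + e2, ?_, by simp [pow_add, prod_mul_distrib]⟩
      simp only [Pi.add_apply, mul_add, sum_add_distrib]; omega
    · rcases Nat.lt_or_ge i n with h | h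
      · classical
        refine Ideal.subset_span ⟨Pi.single ⟨i, h⟩ 1, ?_, ?_⟩
        · rw [sum_eq_single ⟨i, h⟩ (fun b _ hb => by simp [hb]) (by simp)]
          simp
        · rw [prod_eq_single ⟨i, h⟩ (fun b _ hb => by simp [hb]) (by simp)]
          simp [f]
      · rw [hγ (i + 1) (by omega)]; exact zero_mem _
  · rw [Ideal.span_le]
    rintro _ ⟨e, he, rfl⟩
    refine gammaFil_anti ε he ?_
    clear he
    classical
    induction (Finset.univ : Finset (Fin n)) using Finset.induction_on with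
    | empty => simpa using one_mem_gammaFil_zero ε
    | insert a s ha ih =>
      rw [prod_insert ha, sum_insert ha]
      refine mul_mem_gammaFil ε ?_ ih
      induction e a with
      | zero => simpa using one_mem_gammaFil_zero ε
      | succ m ihm =>
        rw [pow_succ, mul_add, mul_one]
        exact mul_mem_gammaFil ε ihm (gamma_mem_gammaFil ε hx _)

omit hKb hA hε in
theorem gammaFil_free_eq_span (hKb : IsBinomial K)
    (εA : A →ₐ[K] K) {B : Type*} [CommRing B] [LambdaOps B] [Algebra K B] [Algebra A B] [IsScalarTower K A B]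
    (hB : IsSpecial B) (hAB : IsLambdaAlg A B) (εB : B →ₐ[K] K) (hεB : IsAugLambdaAlg K B εB)
    (hεAB : ∀ a : A, εB (algebraMap A B a) = εA a) {x : B} (hx : εB x = 0)
    (hgen : Algebra.adjoin A (Set.range fun j : ℕ => gamma (j + 1) x) = ⊤) (k : ℕ) :
    gammaFil (εB : B →+* K) k =
      Ideal.span {b : B | ∃ (e : ℕ →₀ ℕ) (a : A),
        a ∈ gammaFil (εA : A →+* K) (k - e.sum fun j n => (j + 1) * n) ∧
        b = algebraMap A B a * e.prod fun j n => gamma (j + 1) x ^ n} := by
  set J : ℕ → Ideal B := fun k => Ideal.span {b : B | ∃ (e : ℕ →₀ ℕ) (a : A),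
        a ∈ gammaFil (εA : A →+* K) (k - e.sum fun j n => (j + 1) * n) ∧
        b = algebraMap A B a * e.prod fun j n => gamma (j + 1) x ^ n}
  let f : {a : A // εA a = 0} ⊕ Unit → B := Sum.elim (fun a => algebraMap A B a) fun _ => x
  have hf : ∀ l, εB (f l) = 0 := by
    rintro (a | -)
    · exact (hεAB a).trans a.2
    · exact hx
  have hsurj : Function.Surjective (evV f : GV K ({a : A // εA a = 0} ⊕ Unit) → B) := by
    intro b
    suffices b ∈ (evV f : GV K ({a : A // εA a = 0} ⊕ Unit) →ₐ[K] B).range from this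
    have hb : b ∈ Algebra.adjoin A (Set.range fun j : ℕ => gamma (j + 1) x) := hgen ▸ Algebra.mem_top
    induction hb using Algebra.adjoin_induction with
    | mem y hy => obtain ⟨j, rfl⟩ := hy; exact ⟨X (Sum.inr (), j), evV_X f _ j⟩
    | algebraMap a =>
      refine ⟨C (εA a) + X (Sum.inl ⟨a - algebraMap K A (εA a), by simp⟩, 0), ?_⟩
      show evV f _ = _
      rw [map_add, evV_X, gamma_one, evV, aeval_C]
      simp [f, ← IsScalarTower.algebraMap_apply]
    | add _ _ _ _ h h' => exact add_mem h h'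
    | mul _ _ _ _ h h' => exact mul_mem h h'
  have hmapA : ∀ {m : ℕ} {a : A}, a ∈ gammaFil (εA : A →+* K) m → algebraMap A B a ∈ gammaFil (εB : B →+* K) m := by
    intro m a ha
    suffices gammaFil (εA : A →+* K) m ≤ (gammaFil (εB : B →+* K) m).comap (algebraMap A B) from this ha
    rw [gammaFil, Ideal.span_le]
    rintro _ ⟨l, h1, h2, rfl⟩
    refine Ideal.subset_span ⟨l.map fun p => (p.1, algebraMap A B p.2), ?_, ?_, ?_⟩
    · intro p hp
      obtain ⟨q, hq, rfl⟩ := List.mem_map.1 hp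
      exact (hεAB q.2).trans (h1 q hq)
    · simpa [List.map_map, Function.comp_def] using h2
    · rw [map_list_prod, List.map_map, List.map_map]
      congr 2
      funext p
      exact map_gamma' (f := algebraMap A B) hAB p.1 p.2
  apply le_antisymm
  · intro z hz
    obtain ⟨v, hv, rfl⟩ := exists_pre εB hKb hεB.isLambdaAlg hB hεB.map_lam f hf hsurj hz
    refine evV_mem_of_mem_WV f J
      (Ideal.subset_span ⟨0, 1, by simpa using one_mem_gammaFil_zero εA, by simp⟩)
      (fun h => Ideal.span_mono fun _ ⟨e, a, ha, hm⟩ => ⟨e, a, gammaFil_anti εA (Nat.sub_le_sub_right h _) ha, hm⟩)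
      (fun {p q u w} hu hw => ?_) (fun l i => ?_) hv
    · refine Submodule.span_induction (fun u' hu' => ?_) (by rw [zero_mul]; exact zero_mem _)
        (fun _ _ _ _ h h' => by rw [add_mul]; exact add_mem h h')
        (fun c _ _ h => by rw [smul_eq_mul, mul_assoc]; exact Ideal.mul_mem_left _ _ h) hu
      refine Submodule.span_induction (fun w' hw' => ?_) (by rw [mul_zero]; exact zero_mem _)
        (fun _ _ _ _ h h' => by rw [mul_add]; exact add_mem h h')
        (fun c _ _ h => by rw [smul_eq_mul, mul_left_comm]; exact Ideal.mul_mem_left _ _ h) hw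
      obtain ⟨e1, a1, h1, rfl⟩ := hu'
      obtain ⟨e2, a2, h2, rfl⟩ := hw'
      refine Ideal.subset_span ⟨e1 + e2, a1 * a2, gammaFil_anti εA ?_ (mul_mem_gammaFil εA h1 h2), ?_⟩
      · rw [Finsupp.sum_add_index' (by simp) (by intros; ring)]; omega
      · rw [Finsupp.prod_add_index' (by simp) (by intros; ring), map_mul]; ring
    · rcases l with a | -
      · refine Ideal.subset_span ⟨0, gamma (i + 1) (a : A), ?_, ?_⟩
        · simpa using gamma_mem_gammaFil εA a.2 (i + 1)
        · simp only [Finsupp.prod_zero_index, mul_one, f, Sum.elim_inl]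
          exact (map_gamma' (f := algebraMap A B) hAB _ _).symm
      · refine Ideal.subset_span ⟨Finsupp.single i 1, 1, ?_, by simp [f]⟩
        simpa using one_mem_gammaFil_zero εA
  · rw [Ideal.span_le]
    rintro _ ⟨e, a, ha, rfl⟩
    refine gammaFil_anti εB (show k ≤ (k - e.sum fun j n => (j + 1) * n) + e.sum (fun j n => (j + 1) * n) by omega)
      (mul_mem_gammaFil εB (hmapA ha) ?_)
    clear ha
    induction e using Finsupp.induction with
    | zero => simpa using one_mem_gammaFil_zero εB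
    | single_add p m e hp hm ih =>
      rw [Finsupp.sum_add_index' (by simp) (by intros; ring), Finsupp.prod_add_index' (by simp) (by intros; ring),
        Finsupp.sum_single_index (by simp), Finsupp.prod_single_index (by simp)]
      refine mul_mem_gammaFil εB ?_ ih
      clear hm ih
      induction m with
      | zero => simpa using one_mem_gammaFil_zero εB
      | succ m ihm =>
        rw [pow_succ, mul_add, mul_one]
        exact mul_mem_gammaFil εB ihm (gamma_mem_gammaFil εB hx _)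

end Groth.Agent.LamR

namespace Groth.Agent.LamR

open LambdaRing

attribute [local instance] lamV

/-- `λ_{-1}(N)` divides all `λ^p` of its multiples -/
theorem lamAlt_dvd {K : Type*} [CommRing K] [LambdaOps K] (hK : IsSpecial K) {d : ℕ} {N : K}
    (hN : ∀ i : ℕ, d < i → LambdaOps.lam i N = 0) {p : ℕ} (hp : 1 ≤ p) (x : K) :
    (∑ i ∈ range (d + 1), (-1 : K) ^ i * LambdaOps.lam i N) ∣
      LambdaOps.lam p (x * ∑ i ∈ range (d + 1), (-1 : K) ^ i * LambdaOps.lam i N) := by
  rcases Nat.eq_zero_or_pos d with rfl | hd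
  · simp [LambdaOps.lam_zero]
  letI : LambdaOps ℤ := binomialLambdaOps ℤ
  have hKb : IsBinomial ℤ := fun _ _ => rfl
  have hneg : ∀ n, (algebraMap ℤ K) (LambdaOps.lam n (-1 : ℤ)) = LambdaOps.lam n (-1 : K) := by
    intro n
    induction n using Nat.strong_induction_on with
    | _ n ih =>
      rcases n with - | n
      · simp [LambdaOps.lam_zero]
      · rw [lam_neg_succ, lam_neg_succ, map_neg, map_sum]
        congr 1
        refine sum_congr rfl fun i _ => ?_
        rw [map_mul, ih _ (by omega)]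
        congr 1
        show algebraMap ℤ K (Ring.choose (1 : ℤ) (i + 1)) = LambdaOps.lam (i + 1) (1 : K)
        rw [← Nat.cast_one, Ring.choose_natCast, map_natCast]
        exact (Nat.cast_one (R := K) ▸ lam_natCast hK.lam_one_eq_zero 1 (i + 1)).symm
  have hAlg : IsLambdaAlg ℤ K := by
    intro n c
    induction c using Int.induction_on generalizing n with
    | zero =>
      rcases n with - | n
      · simp [LambdaOps.lam_zero]
      · rw [lam_zero_right (Nat.succ_ne_zero n), map_zero, lam_zero_right (Nat.succ_ne_zero n)]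
    | succ c _ =>
      show algebraMap ℤ K (Ring.choose ((c : ℤ) + 1) n) = _
      rw [← Nat.cast_succ, Ring.choose_natCast, map_natCast, map_natCast]
      exact (lam_natCast hK.lam_one_eq_zero _ n).symm
    | pred c ih =>
      rw [sub_eq_add_neg, LambdaOps.lam_add, map_sum, map_add, LambdaOps.lam_add]
      refine sum_congr rfl fun i _ => ?_
      rw [map_mul, ih, hneg, map_neg, map_neg, map_one]
  obtain ⟨e, rfl⟩ : ∃ e, d = e + 1 := ⟨d - 1, by omega⟩
  set f : K → K := fun a => a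
  set sg : GV ℤ K := C ((-1) ^ (e + 1)) with hsg
  have hΛ : evV f (sg * X (N - ((e + 1 : ℕ) : K), e)) = ∑ j ∈ range (e + 1 + 1), (-1 : K) ^ j * LambdaOps.lam j N := by
    rw [map_mul, evV_X, gamma_top_eq_alt hK.lam_one_eq_zero, hsg, evV, aeval_C, map_pow, map_neg, map_one, ← mul_assoc,
      ← pow_add, Even.neg_one_pow ⟨_, rfl⟩, one_mul]
  set v : GV ℤ K := X (x, 0) * sg * X (N - ((e + 1 : ℕ) : K), e) with hv
  have hvT : v ∈ TV ℤ (N - ((e + 1 : ℕ) : K)) e := Ideal.mul_mem_left _ _ (Ideal.subset_span ⟨_, ⟨rfl, le_rfl⟩, rfl⟩)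
  obtain ⟨Y, hY⟩ := exists_killV_eq _ e (lam_mem_TV hvT p hp)
  have hkill := congrArg (evV f) hY
  rw [evV_killV f (fun q hq => by
      obtain ⟨hq1, hq2⟩ := hq
      show gamma (q.2 + 1) q.1 = 0
      rw [hq1]; exact gamma_sub_natCast_eq_zero hK.lam_one_eq_zero hN (by omega)),
    evV_lam f hKb hAlg hK, hv, mul_assoc, map_mul, evV_X, gamma_one, hΛ] at hkill
  refine ⟨evV f (sg * Y), ?_⟩
  rw [hkill, ← hΛ, ← map_mul]
  congr 1
  have : sg * sg = 1 := by rw [hsg, ← map_mul, ← pow_add, Even.neg_one_pow ⟨_, rfl⟩, map_one]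
  linear_combination -(Y * X (N - ((e + 1 : ℕ) : K), e)) * this

end Groth.Agent.LamR
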