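import Groth.Agent.LamR.Basic

/-!
# λ-operations on ℚ-algebras are determined by Adams operations
-/

open Finset

namespace Groth.Agent.LamR

open LambdaRing PowerSeries

variable {K : Type*} [CommRing K] [Algebra ℚ K]

lemma isUnit_succ (n : ℕ) : IsUnit ((n : K) + 1) := by
  have : IsUnit ((n : ℚ) + 1) := (show (n : ℚ) + 1 ≠ 0 by positivity).isUnit
  simpa using this.map (algebraMap ℚ K)

/-- The solution of `f' = g f` with constant coefficient one is unique. -/
lemma eq_of_derivative {f h g : PowerSeries K} (hf : PowerSeries.derivative K f = g * f)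
    (hh : PowerSeries.derivative K h = g * h) (h0 : PowerSeries.constantCoeff f = PowerSeries.constantCoeff h) :
    f = h := by
  ext n
  induction n using Nat.strong_induction_on with
  | _ n ih =>
    cases n with
    | zero => rwa [coeff_zero_eq_constantCoeff_apply, coeff_zero_eq_constantCoeff_apply]
    | succ n =>
      apply (isUnit_succ (K := K) n).mul_right_cancel
      rw [← PowerSeries.coeff_derivative, ← PowerSeries.coeff_derivative, hf, hh, PowerSeries.coeff_mul, PowerSeries.coeff_mul]
      refine sum_congr rfl fun p hp => ?_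
      rw [ih p.2 (by have := mem_antidiagonal.1 hp; omega)]

/-- the sequence λ^n determined by the power sums -/
noncomputable def lamOf (g : ℕ → K) : ℕ → K
  | 0 => 1
  | n + 1 => algebraMap ℚ K ((n : ℚ) + 1)⁻¹ * ∑ i : Fin (n + 1), g i * lamOf g (n - i)

lemma derivative_lamOf (g : ℕ → K) :
    PowerSeries.derivative K (PowerSeries.mk (lamOf g)) = PowerSeries.mk g * PowerSeries.mk (lamOf g) := by
  ext n
  rw [PowerSeries.coeff_derivative, PowerSeries.coeff_mk, PowerSeries.coeff_mul, Finset.Nat.sum_antidiagonal_eq_sum_range_succ_mk,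
    lamOf, Fin.sum_univ_eq_sum_range (fun i => g i * lamOf g (n - i))]
  simp only [PowerSeries.coeff_mk]
  rw [mul_right_comm, show (n : K) + 1 = algebraMap ℚ K ((n : ℚ) + 1) by simp, ← map_mul,
    inv_mul_cancel₀ (show (n : ℚ) + 1 ≠ 0 by positivity), map_one, one_mul]

/-- the λ-structure with prescribed Adams operations -/
@[reducible] noncomputable def opsOfAdams (ψ : ℕ → K →+ K) (hψ : ψ 1 = AddMonoidHom.id K) : LambdaOps K where
  lam n x := lamOf (fun i => (-1) ^ i * ψ (i + 1) x) n
  lam_zero x := by rw [lamOf]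
  lam_one x := by simp [lamOf, hψ]
  lam_add k x y := by
    have h : PowerSeries.mk (lamOf fun i => (-1) ^ i * ψ (i + 1) (x + y)) =
        PowerSeries.mk (lamOf fun i => (-1) ^ i * ψ (i + 1) x) * PowerSeries.mk (lamOf fun i => (-1) ^ i * ψ (i + 1) y) := by
      apply eq_of_derivative (g := PowerSeries.mk fun i => (-1) ^ i * ψ (i + 1) (x + y)) (derivative_lamOf _)
      · rw [Derivation.leibniz, derivative_lamOf, derivative_lamOf, smul_eq_mul, smul_eq_mul,
          show (PowerSeries.mk fun i => (-1 : K) ^ i * ψ (i + 1) (x + y)) = PowerSeries.mk (fun i => (-1 : K) ^ i * ψ (i + 1) x) +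
            PowerSeries.mk (fun i => (-1 : K) ^ i * ψ (i + 1) y) by ext; simp [mul_add]]
        ring
      · simp [lamOf]
    have := congrArg (PowerSeries.coeff k) h
    rwa [PowerSeries.coeff_mk, PowerSeries.coeff_mul, Finset.Nat.sum_antidiagonal_eq_sum_range_succ_mk,
      sum_congr rfl (fun i _ => by rw [PowerSeries.coeff_mk, PowerSeries.coeff_mk])] at this

lemma adamsOp_opsOfAdams (ψ : ℕ → K →+ K) (hψ : ψ 1 = AddMonoidHom.id K) (k : ℕ) (hk : 1 ≤ k) (x : K) :
    @adamsOp K _ (opsOfAdams ψ hψ) k x = ψ k x := by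
  letI := opsOfAdams ψ hψ
  obtain ⟨k, rfl⟩ : ∃ j, k = j + 1 := ⟨k - 1, by omega⟩
  have : logDerivSeries x = PowerSeries.mk fun i => (-1) ^ i * ψ (i + 1) x :=
    (logDerivSeries_eq_iff x _).2 (derivative_lamOf _)
  rw [adamsOp, this, PowerSeries.coeff_mk, ← mul_assoc, ← pow_add, Even.neg_one_pow ⟨k, rfl⟩, one_mul]

lemma lamSeries_eq_of_adamsOp (L₁ L₂ : LambdaOps K)
    (x : K) (h : ∀ k, 1 ≤ k → @adamsOp K _ L₁ k x = @adamsOp K _ L₂ k x) :
    @lamSeries K _ L₁ x = @lamSeries K _ L₂ x := by
  refine eq_of_derivative (g := @logDerivSeries K _ L₁ x) (@logDerivSeries_spec K _ L₁ x) ?_ ?_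
  · have : @logDerivSeries K _ L₁ x = @logDerivSeries K _ L₂ x := by
      ext k
      exact ((isUnit_one.neg).pow k).mul_left_cancel (h (k + 1) (by omega))
    rw [this]
    exact @logDerivSeries_spec K _ L₂ x
  · rw [@constantCoeff_lamSeries K _ L₁ x, @constantCoeff_lamSeries K _ L₂ x]

end Groth.Agent.LamR
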