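import Groth.Agent.LamR.Basic

/-!
# Series attached to families of roots and their power sums

`cser c = 1 + c 0 t + c 1 t² + ⋯`, `genSer s = ∏ (1 + a t)` and the power sums `psum f k` of a
series with constant coefficient one, read off from the logarithmic derivative.
-/

open Finset

namespace Groth.Agent.LamR

open LambdaRing PowerSeries

variable {R S : Type*} [CommRing R] [CommRing S]

/-- the elementary symmetric values `e_{i+1}` of a multiset -/
def es (s : Multiset R) (i : ℕ) : R := s.esymm (i + 1)

/-- the series `1 + c 0 t + c 1 t² + ⋯` -/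
def cser (c : ℕ → R) : PowerSeries R :=
  PowerSeries.mk fun j => match j with | 0 => 1 | j + 1 => c j

/-- the series `∏ (1 + a t)` -/
noncomputable def genSer (s : Multiset R) : PowerSeries R := (s.map fun a => 1 + PowerSeries.C a * PowerSeries.X).prod

/-- all pairwise products -/
def prodMs (s t : Multiset R) : Multiset R := s.bind fun a => t.map fun b => a * b

/-- power sums of the roots of a series with constant coefficient one -/
noncomputable def psum (f : PowerSeries R) : ℕ → R
  | 0 => 0
  | k + 1 => (-1) ^ k * PowerSeries.coeff k (PowerSeries.derivative R f * f.invOfUnit 1)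

@[simp] lemma constantCoeff_cser (c : ℕ → R) : PowerSeries.constantCoeff (cser c) = 1 := by
  rw [← coeff_zero_eq_constantCoeff_apply, cser, PowerSeries.coeff_mk]

@[simp] lemma coeff_succ_cser (c : ℕ → R) (j : ℕ) : PowerSeries.coeff (j + 1) (cser c) = c j := by
  rw [cser, PowerSeries.coeff_mk]

lemma map_cser (f : R →+* S) (c : ℕ → R) : PowerSeries.map f (cser c) = cser fun i => f (c i) := by
  ext j
  cases j with
  | zero => simp [cser]
  | succ j => simp

lemma esymm_zero' (s : Multiset R) : s.esymm 0 = 1 := by simp [Multiset.esymm]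

lemma esymm_cons' (a : R) (s : Multiset R) (k : ℕ) :
    (a ::ₘ s).esymm (k + 1) = s.esymm (k + 1) + a * s.esymm k := by
  simp [Multiset.esymm, Multiset.powersetCard_cons, Multiset.map_map, Multiset.sum_map_mul_left]

lemma esymm_eq_zero_of_card_lt {s : Multiset R} {k : ℕ} (h : s.card < k) : s.esymm k = 0 := by
  rw [Multiset.esymm, Multiset.powersetCard_eq_empty _ h, Multiset.map_zero, Multiset.sum_zero]

lemma map_esymm (f : R →+* S) (s : Multiset R) (k : ℕ) : f (s.esymm k) = (s.map f).esymm k := by
  rw [Multiset.esymm, Multiset.esymm, map_multiset_sum, Multiset.powersetCard_map, Multiset.map_map, Multiset.map_map]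
  refine congrArg _ (Multiset.map_congr rfl fun t _ => ?_)
  exact map_multiset_prod f t

lemma esymm_add_zeros (s : Multiset R) : ∀ (r k : ℕ), (s + Multiset.replicate r 0).esymm k = s.esymm k
  | 0, k => by simp
  | r + 1, 0 => by simp [esymm_zero']
  | r + 1, k + 1 => by
    rw [Multiset.replicate_succ, Multiset.add_cons, esymm_cons', esymm_add_zeros s r, zero_mul, add_zero]

lemma coeff_genSer (s : Multiset R) : ∀ k : ℕ, PowerSeries.coeff k (genSer s) = s.esymm k := by
  induction s using Multiset.induction_on with
  | empty =>
    intro k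
    rcases k with - | k
    · simp [genSer, Multiset.esymm]
    · rw [esymm_eq_zero_of_card_lt (by simp)]; simp [genSer, PowerSeries.coeff_one]
  | cons a s ih =>
    intro k
    have : genSer (a ::ₘ s) = genSer s + PowerSeries.C a * (PowerSeries.X * genSer s) := by
      rw [genSer, Multiset.map_cons, Multiset.prod_cons, ← genSer]; ring
    rw [this, map_add, PowerSeries.coeff_C_mul, ih]
    rcases k with - | k
    · simp [esymm_zero']
    · rw [PowerSeries.coeff_succ_X_mul, ih, esymm_cons']

lemma genSer_eq_cser (s : Multiset R) : genSer s = cser (es s) := by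
  ext k
  rw [coeff_genSer]
  rcases k with - | k
  · simp [cser, esymm_zero']
  · rw [coeff_succ_cser]; rfl

lemma rescale_one_add (a b : R) :
    PowerSeries.rescale a (1 + PowerSeries.C b * PowerSeries.X) = 1 + PowerSeries.C (a * b) * PowerSeries.X := by
  rw [map_add, map_one, map_mul, PowerSeries.rescale_X, ← mul_assoc]
  congr 2
  ext n
  rw [PowerSeries.coeff_mul_C, PowerSeries.coeff_rescale, PowerSeries.coeff_C, PowerSeries.coeff_C]
  rcases n with - | n <;> simp [mul_comm]

lemma genSer_prodMs (s t : Multiset R) :
    genSer (prodMs s t) = (s.map fun a => PowerSeries.rescale a (genSer t)).prod := by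
  rw [genSer, prodMs, Multiset.map_bind, Multiset.prod_bind]
  refine congrArg _ (Multiset.map_congr rfl fun a _ => ?_)
  rw [genSer, map_multiset_prod, Multiset.map_map, Multiset.map_map]
  refine congrArg _ (Multiset.map_congr rfl fun b _ => ?_)
  simp [rescale_one_add]

lemma invOfUnit_unique {f h : PowerSeries R} (hf : PowerSeries.constantCoeff f = 1) (hh : f * h = 1) :
    f.invOfUnit 1 = h := by
  calc f.invOfUnit 1 = f.invOfUnit 1 * (f * h) := by rw [hh, mul_one]
    _ = (f * f.invOfUnit 1) * h := by ring
    _ = h := by rw [PowerSeries.mul_invOfUnit f 1 (by simpa using hf), one_mul]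

lemma map_psum (φ : R →+* S) {f : PowerSeries R} (hf : PowerSeries.constantCoeff f = 1) (k : ℕ) :
    φ (psum f k) = psum (PowerSeries.map φ f) k := by
  cases k with
  | zero => simp [psum]
  | succ k =>
    have hinv : (PowerSeries.map φ f).invOfUnit 1 = PowerSeries.map φ (f.invOfUnit 1) :=
      invOfUnit_unique (by rw [← coeff_zero_eq_constantCoeff_apply, PowerSeries.coeff_map, coeff_zero_eq_constantCoeff_apply, hf, map_one])
        (by rw [← map_mul, PowerSeries.mul_invOfUnit f 1 (by simpa using hf), map_one])
    have hd : PowerSeries.derivative S (PowerSeries.map φ f) = PowerSeries.map φ (PowerSeries.derivative R f) := by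
      ext n; simp [PowerSeries.coeff_derivative]
    rw [psum, psum, hinv, hd, ← map_mul, PowerSeries.coeff_map, map_mul, map_pow, map_neg, map_one]

lemma psum_congr {f g : PowerSeries R} (hf : PowerSeries.constantCoeff f = 1) (hg : PowerSeries.constantCoeff g = 1)
    {k : ℕ} (h : ∀ j, j ≤ k → PowerSeries.coeff j f = PowerSeries.coeff j g) : psum f k = psum g k := by
  cases k with
  | zero => rfl
  | succ k =>
    have hsub : PowerSeries.X ^ (k + 2) ∣ f - g :=
      PowerSeries.X_pow_dvd_iff.2 fun j hj => by rw [map_sub, h j (by omega), sub_self]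
    have hder : PowerSeries.X ^ (k + 1) ∣ PowerSeries.derivative R f - PowerSeries.derivative R g :=
      PowerSeries.X_pow_dvd_iff.2 fun j hj => by
        rw [map_sub, PowerSeries.coeff_derivative, PowerSeries.coeff_derivative, h (j + 1) (by omega), sub_self]
    have hinv : PowerSeries.X ^ (k + 1) ∣ f.invOfUnit 1 - g.invOfUnit 1 := by
      have h1 := PowerSeries.mul_invOfUnit f 1 (by simpa using hf)
      have h2 := PowerSeries.mul_invOfUnit g 1 (by simpa using hg)
      have e : f.invOfUnit 1 - g.invOfUnit 1 = (f - g) * -(f.invOfUnit 1 * g.invOfUnit 1) := by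
        linear_combination g.invOfUnit 1 * h1 - f.invOfUnit 1 * h2
      rw [e]
      exact Dvd.dvd.mul_right ((pow_dvd_pow _ (by omega)).trans hsub) _
    have htot : PowerSeries.X ^ (k + 1) ∣
        PowerSeries.derivative R f * f.invOfUnit 1 - PowerSeries.derivative R g * g.invOfUnit 1 := by
      rw [show PowerSeries.derivative R f * f.invOfUnit 1 - PowerSeries.derivative R g * g.invOfUnit 1 =
        (PowerSeries.derivative R f - PowerSeries.derivative R g) * f.invOfUnit 1 +
          PowerSeries.derivative R g * (f.invOfUnit 1 - g.invOfUnit 1) by ring]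
      exact dvd_add (hder.mul_right _) (hinv.mul_left _)
    have := PowerSeries.X_pow_dvd_iff.1 htot k (by omega)
    rw [map_sub, sub_eq_zero] at this
    rw [psum, psum, this]

lemma derivative_genSer (s : Multiset R) :
    PowerSeries.derivative R (genSer s) =
      PowerSeries.mk (fun i => (-1 : R) ^ i * (s.map (· ^ (i + 1))).sum) * genSer s := by
  induction s using Multiset.induction_on with
  | empty =>
    rw [genSer, Multiset.map_zero, Multiset.prod_zero, Derivation.map_one_eq_zero, mul_one]
    ext i; simp
  | cons a s ih =>
    have h1 : PowerSeries.mk (fun i => (-1 : R) ^ i * a ^ (i + 1)) * (1 + PowerSeries.C a * PowerSeries.X) = PowerSeries.C a := by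
      ext i
      rw [mul_add, mul_one, ← mul_assoc, map_add, PowerSeries.coeff_mk]
      cases i with
      | zero => simp
      | succ i =>
        rw [PowerSeries.coeff_succ_mul_X, mul_comm _ (PowerSeries.C a), PowerSeries.coeff_C_mul, PowerSeries.coeff_mk,
          PowerSeries.coeff_succ_C]
        ring
    have h2 : PowerSeries.mk (fun i => (-1 : R) ^ i * ((a ::ₘ s).map (· ^ (i + 1))).sum) =
        PowerSeries.mk (fun i => (-1 : R) ^ i * a ^ (i + 1)) + PowerSeries.mk (fun i => (-1 : R) ^ i * (s.map (· ^ (i + 1))).sum) := by
      ext i; simp [mul_add]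
    have h3 : PowerSeries.derivative R (1 + PowerSeries.C a * PowerSeries.X) = PowerSeries.C a := by
      ext i
      rw [PowerSeries.coeff_derivative, map_add, PowerSeries.coeff_C_mul, PowerSeries.coeff_one, if_neg (Nat.succ_ne_zero i),
        PowerSeries.coeff_X, PowerSeries.coeff_C, zero_add]
      rcases i with - | i <;> simp
    rw [show genSer (a ::ₘ s) = (1 + PowerSeries.C a * PowerSeries.X) * genSer s by simp [genSer],
      Derivation.leibniz, ih, h2, h3, smul_eq_mul, smul_eq_mul]
    linear_combination -(genSer s) * h1

lemma psum_genSer (s : Multiset R) (k : ℕ) : psum (genSer s) (k + 1) = (s.map (· ^ (k + 1))).sum := by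
  have h0 : PowerSeries.constantCoeff (genSer s) = 1 := by rw [genSer_eq_cser, constantCoeff_cser]
  rw [psum, derivative_genSer, mul_assoc, PowerSeries.mul_invOfUnit _ 1 (by simpa using h0), mul_one, PowerSeries.coeff_mk,
    ← mul_assoc, ← pow_add, Even.neg_one_pow ⟨k, rfl⟩, one_mul]

/-- A series is determined by its power sums when integers can be cancelled. -/
lemma eq_of_psum (htf : ∀ (n : ℕ) (a b : R), a * ((n : R) + 1) = b * ((n : R) + 1) → a = b)
    {f g : PowerSeries R} (hf : PowerSeries.constantCoeff f = 1) (hg : PowerSeries.constantCoeff g = 1)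
    (h : ∀ k, psum f (k + 1) = psum g (k + 1)) : f = g := by
  set q := PowerSeries.derivative R f * f.invOfUnit 1
  have hq : q = PowerSeries.derivative R g * g.invOfUnit 1 := by
    ext k
    exact ((isUnit_one.neg).pow k).mul_left_cancel (h k)
  have hf' : PowerSeries.derivative R f = q * f := by
    rw [mul_assoc, mul_comm _ f, PowerSeries.mul_invOfUnit f 1 (by simpa using hf), mul_one]
  have hg' : PowerSeries.derivative R g = q * g := by
    rw [hq, mul_assoc, mul_comm _ g, PowerSeries.mul_invOfUnit g 1 (by simpa using hg), mul_one]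
  ext n
  induction n using Nat.strong_induction_on with
  | _ n ih =>
    cases n with
    | zero => rw [coeff_zero_eq_constantCoeff_apply, coeff_zero_eq_constantCoeff_apply, hf, hg]
    | succ n =>
      apply htf n
      rw [← PowerSeries.coeff_derivative, ← PowerSeries.coeff_derivative, hf', hg', PowerSeries.coeff_mul, PowerSeries.coeff_mul]
      refine sum_congr rfl fun p hp => ?_
      rw [ih p.2 (by have := mem_antidiagonal.1 hp; omega)]

section Lambda

variable [LambdaOps R]

lemma lamSeries_eq_cser (x : R) : lamSeries x = cser fun i => LambdaOps.lam (i + 1) x := by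
  ext k
  rcases k with - | k
  · simp [cser, LambdaOps.lam_zero]
  · simp

lemma adamsOp_eq_psum (k : ℕ) (x : R) : adamsOp k x = psum (lamSeries x) k := by
  cases k <;> rfl

end Lambda

end Groth.Agent.LamR
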