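import Groth.Agent.LamR.Sym
import Mathlib.Algebra.MvPolynomial.Monad

/-!
# The universal polynomials of λ-ring theory
-/

open Finset MvPolynomial

noncomputable section

namespace Groth.Agent.LamR

open LambdaRing

section Two

variable {N : ℕ}

/-- the weight of the two groups of variables -/
def wt2 : ℕ ⊕ ℕ → ℕ × ℕ := Sum.elim (fun i => (i + 1, 0)) (fun i => (0, i + 1))

/-- restriction to the first `N` variables of each group -/
def kill2 (N : ℕ) : MvPolynomial (ℕ ⊕ ℕ) ℤ →ₐ[ℤ] MvPolynomial (Fin N ⊕ Fin N) ℤ :=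
  aeval (Sum.elim (fun i => if h : i < N then X (Sum.inl ⟨i, h⟩) else 0)
    (fun i => if h : i < N then X (Sum.inr ⟨i, h⟩) else 0))

lemma rename_kill2 {p : MvPolynomial (ℕ ⊕ ℕ) ℤ} (hp : ∀ i ∈ p.vars, Sum.elim id id i < N) :
    rename (Sum.map Fin.val Fin.val) (kill2 N p) = p := by
  rw [kill2, ← AlgHom.comp_apply, comp_aeval]
  refine (aeval_congr_vars fun i hi => ?_).trans (aeval_X_left_apply p)
  rcases i with i | i
  · simp only [Sum.elim_inl]; rw [dif_pos (show i < N from hp _ hi), rename_X]; rfl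
  · simp only [Sum.elim_inr]; rw [dif_pos (show i < N from hp _ hi), rename_X]; rfl

/-- the generic values `e_{i+1}(T)`, `e_{i+1}(U)` -/
def es2 (N : ℕ) : ℕ ⊕ ℕ → MvPolynomial (Fin N ⊕ Fin N) ℤ :=
  Sum.elim (fun i => es ((gen N ℤ).map (rename Sum.inl)) i) (fun i => es ((gen N ℤ).map (rename Sum.inr)) i)

lemma es2_inl (i : ℕ) : es2 N (Sum.inl i) = rename Sum.inl (esymm (Fin N) ℤ (i + 1)) := by
  rw [← es_gen]; exact (map_es (rename Sum.inl : MvPolynomial (Fin N) ℤ →ₐ[ℤ] _).toRingHom (gen N ℤ) i).symm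

lemma es2_inr (i : ℕ) : es2 N (Sum.inr i) = rename Sum.inr (esymm (Fin N) ℤ (i + 1)) := by
  rw [← es_gen]; exact (map_es (rename Sum.inr : MvPolynomial (Fin N) ℤ →ₐ[ℤ] _).toRingHom (gen N ℤ) i).symm

lemma sumAlgEquiv_symm_esymm (m : ℕ) :
    (sumAlgEquiv ℤ (Fin N) (Fin N)).symm (esymm (Fin N) (MvPolynomial (Fin N) ℤ) m) =
      rename Sum.inl (esymm (Fin N) ℤ m) := by
  simp [esymm, map_sum, map_prod, sumAlgEquiv_symm_X]

lemma es2_injective : Function.Injective
    (aeval (fun i : Fin N ⊕ Fin N => es2 N (Sum.map Fin.val Fin.val i)) :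
      MvPolynomial (Fin N ⊕ Fin N) ℤ →ₐ[ℤ] MvPolynomial (Fin N ⊕ Fin N) ℤ) := by
  let φin : MvPolynomial (Fin N) ℤ →+* MvPolynomial (Fin N) ℤ :=
    (Subalgebra.val _).toRingHom.comp (esymmAlgHom (Fin N) ℤ N).toRingHom
  have hin : Function.Injective φin := Subtype.val_injective.comp (esymmAlgHom_injective ℤ (by simp))
  let φout : MvPolynomial (Fin N) (MvPolynomial (Fin N) ℤ) →+* MvPolynomial (Fin N) (MvPolynomial (Fin N) ℤ) :=
    (Subalgebra.val _).toRingHom.comp (esymmAlgHom (Fin N) (MvPolynomial (Fin N) ℤ) N).toRingHom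
  have hout : Function.Injective φout := Subtype.val_injective.comp (esymmAlgHom_injective _ (by simp))
  let H : MvPolynomial (Fin N ⊕ Fin N) ℤ →+* MvPolynomial (Fin N ⊕ Fin N) ℤ :=
    (sumAlgEquiv ℤ (Fin N) (Fin N)).symm.toAlgHom.toRingHom.comp
      (φout.comp ((MvPolynomial.map φin).comp (sumAlgEquiv ℤ (Fin N) (Fin N)).toAlgHom.toRingHom))
  have hH : Function.Injective H :=
    (sumAlgEquiv ℤ (Fin N) (Fin N)).symm.injective.comp
      (hout.comp ((map_injective φin hin).comp (sumAlgEquiv ℤ (Fin N) (Fin N)).injective))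
  have heq : H = (aeval (fun i : Fin N ⊕ Fin N => es2 N (Sum.map Fin.val Fin.val i)) :
      MvPolynomial (Fin N ⊕ Fin N) ℤ →ₐ[ℤ] MvPolynomial (Fin N ⊕ Fin N) ℤ).toRingHom := by
    refine MvPolynomial.ringHom_ext (fun r => by simp) fun i => ?_
    rcases i with i | i
    · simp [H, φout, φin, es2_inl, esymmAlgHom_apply, sumAlgEquiv_symm_esymm]
    · have : φin (X i) = esymm (Fin N) ℤ (i + 1) := by simp [φin, esymmAlgHom_apply]
      simp only [H, φout, RingHom.coe_comp, Function.comp_apply, AlgHom.toRingHom_eq_coe, RingHom.coe_coe,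
        AlgEquiv.coe_toAlgHom, sumAlgEquiv_X_inr, MvPolynomial.map_C, this, esymmAlgHom_apply, Subalgebra.coe_val,
        aeval_C, aeval_X, Sum.map_inr, es2_inr]
      rw [MvPolynomial.algebraMap_eq, AlgEquiv.symm_apply_eq]
      exact (AlgHom.congr_fun (sumAlgEquiv_comp_rename_inr ℤ (Fin N) (Fin N)) _).symm
  intro a b hab
  apply hH
  rw [heq]; exact hab

lemma gen_injective2 {p p' : MvPolynomial (ℕ ⊕ ℕ) ℤ} (hp : ∀ i ∈ p.vars, Sum.elim id id i < N)
    (hp' : ∀ i ∈ p'.vars, Sum.elim id id i < N) (h : aeval (es2 N) p = aeval (es2 N) p') : p = p' := by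
  rw [← rename_kill2 hp, ← rename_kill2 hp', aeval_rename, aeval_rename] at h
  rw [← rename_kill2 hp, ← rename_kill2 hp']
  exact congrArg _ (es2_injective h)

lemma eq_of_forall2 {p p' : MvPolynomial (ℕ ⊕ ℕ) ℤ}
    (h : ∀ (R : Type) [CommRing R] (s t : Multiset R),
      aeval (Sum.elim (es s) (es t)) p = aeval (Sum.elim (es s) (es t)) p') : p = p' := by
  classical
  refine gen_injective2 (N := (p.vars ∪ p'.vars).sup (Sum.elim id id) + 1) (fun i hi => ?_) (fun i hi => ?_) ?_
  rotate_left 2
  · exact h _ _ _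
  all_goals exact Nat.lt_succ_of_le (Finset.le_sup (f := Sum.elim id id) (by simp [hi]))

lemma vars_lt_of_weighted2 {p : MvPolynomial (ℕ ⊕ ℕ) ℤ} {a : ℕ} (hp : IsWeightedHomogeneous wt2 p (a, a))
    {i : ℕ ⊕ ℕ} (hi : i ∈ p.vars) : Sum.elim id id i < a := by
  obtain ⟨d, hd, hid⟩ := (mem_vars_iff_mem_support i).1 hi
  have h : wt2 i ≤ (a, a) := by
    have e := hp (mem_support_iff.1 hd)
    rw [Finsupp.weight_apply, Finsupp.sum, Prod.ext_iff, Prod.fst_sum, Prod.snd_sum] at e
    have h1 := Finsupp.mem_support_iff.1 hid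
    constructor
    · refine (show (wt2 i).1 ≤ (d i • wt2 i).1 from Nat.le_mul_of_pos_left _ (Nat.pos_of_ne_zero h1)).trans ?_
      exact e.1 ▸ Finset.single_le_sum (f := fun j => (d j • wt2 j).1) (fun _ _ => Nat.zero_le _) hid
    · refine (show (wt2 i).2 ≤ (d i • wt2 i).2 from Nat.le_mul_of_pos_left _ (Nat.pos_of_ne_zero h1)).trans ?_
      exact e.2 ▸ Finset.single_le_sum (f := fun j => (d j • wt2 j).2) (fun _ _ => Nat.zero_le _) hid
  rcases i with i | i
  · exact h.1
  · exact h.2

end Two

/-- series whose coefficient of `t^k` is homogeneous of degree `k` -/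
def GradedSer {N : ℕ} {B : Type} [CommRing B] (f : PowerSeries (MvPolynomial (Fin N) B)) : Prop :=
  ∀ k, IsWeightedHomogeneous (fun _ => 1) (PowerSeries.coeff k f) k

lemma gradedSer_prod {N : ℕ} {B : Type} [CommRing B] (s : Multiset (PowerSeries (MvPolynomial (Fin N) B)))
    (h : ∀ f ∈ s, GradedSer f) : GradedSer s.prod := by
  refine Multiset.prod_induction GradedSer s (fun f g hf hg k => ?_) (fun k => ?_) h
  · rw [PowerSeries.coeff_mul]
    refine IsWeightedHomogeneous.sum _ _ _ fun p hp => ?_
    have := (hf p.1).mul (hg p.2)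
    rwa [mem_antidiagonal.1 hp] at this
  · rw [PowerSeries.coeff_one]
    split_ifs with hk
    · subst hk; exact isWeightedHomogeneous_one _ _
    · exact isWeightedHomogeneous_zero _ _ _

lemma aeval_sumAlgEquiv_symm {R : Type*} [CommRing R] (u v : ℕ → R) (q : MvPolynomial ℕ (MvPolynomial ℕ ℤ)) :
    aeval (Sum.elim u v) ((sumAlgEquiv ℤ ℕ ℕ).symm q) = eval₂ (aeval v).toRingHom u q := by
  induction q using MvPolynomial.induction_on with
  | C b =>
    rw [eval₂_C]
    induction b using MvPolynomial.induction_on with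
    | C r => simp
    | add a b ha hb => simp only [map_add, ha, hb]
    | mul_X a i ha => simp only [map_mul, ha]; simp
  | add a b ha hb => simp only [map_add, ha, hb, eval₂_add]
  | mul_X a i ha => simp [map_mul, ha]

lemma exists_mulU (m : ℕ) : ∃ P : MvPolynomial (ℕ ⊕ ℕ) ℤ,
    ∀ (R : Type) [CommRing R] (s t : Multiset R),
      aeval (Sum.elim (es s) (es t)) P = (prodMs s t).esymm m := by
  obtain ⟨q, -, hq⟩ := exists_sym (B := MvPolynomial ℕ ℤ)
    (fun R _ _ s => PowerSeries.coeff m
      (s.map fun a => PowerSeries.rescale a (cser fun i => algebraMap (MvPolynomial ℕ ℤ) R (X i))).prod)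
    (fun R S _ _ _ _ f s => by
      show (f : R →+* S) _ = _
      rw [← PowerSeries.coeff_map, map_multiset_prod, Multiset.map_map, Multiset.map_map]
      congr 2
      refine Multiset.map_congr rfl fun a _ => ?_
      ext k
      cases k <;> simp [cser])
    (fun R _ _ s => by
      rw [Multiset.map_cons, Multiset.prod_cons, PowerSeries.rescale_zero, RingHom.comp_apply, constantCoeff_cser,
        map_one, one_mul])
    m (fun N => gradedSer_prod _ (fun f hf => by
      obtain ⟨a, ha, rfl⟩ := Multiset.mem_map.1 hf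
      obtain ⟨j, -, rfl⟩ := Multiset.mem_map.1 ha
      intro k
      rw [PowerSeries.coeff_rescale]
      have h1 := (isWeightedHomogeneous_X (MvPolynomial ℕ ℤ) (fun _ : Fin N => 1) j).pow k
      rw [smul_eq_mul, mul_one] at h1
      cases k with
      | zero =>
        simp only [cser, PowerSeries.coeff_mk, pow_zero, mul_one]
        exact isWeightedHomogeneous_one _ _
      | succ k =>
        rw [coeff_succ_cser, MvPolynomial.algebraMap_eq, mul_comm]
        exact h1.C_mul _) m)
  refine ⟨(sumAlgEquiv ℤ ℕ ℕ).symm q, fun R _ s t => ?_⟩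
  letI : Algebra (MvPolynomial ℕ ℤ) R := (aeval (es t)).toRingHom.toAlgebra
  rw [aeval_sumAlgEquiv_symm, ← coeff_genSer, genSer_prodMs, genSer_eq_cser]
  refine (hq R s).trans ?_
  congr 3
  funext a
  congr 2
  funext i
  exact aeval_X _ i

/-- the universal polynomial for `λ^m(xy)` -/
def mulU (m : ℕ) : MvPolynomial (ℕ ⊕ ℕ) ℤ := (exists_mulU m).choose

lemma mulU_spec (m : ℕ) (R : Type) [CommRing R] [Algebra ℤ R] (s t : Multiset R) :
    aeval (Sum.elim (es s) (es t)) (mulU m) = (prodMs s t).esymm m := by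
  obtain rfl : ‹Algebra ℤ R› = Ring.toIntAlgebra R := Subsingleton.elim _ _
  exact (exists_mulU m).choose_spec R s t

lemma isWeightedHomogeneous_mulU (m : ℕ) : IsWeightedHomogeneous wt2 (mulU m) (m, m) := by
  classical
  refine isWeightedHomogeneous_of_components fun e he => eq_of_forall2 fun R _ s t => ?_
  rw [map_zero]
  obtain ⟨a, ha⟩ := exists_eq_map_univ s rfl
  obtain ⟨b, hb⟩ := exists_eq_map_univ t rfl
  let w : Fin s.card ⊕ Fin t.card → ℕ × ℕ := Sum.elim (fun _ => (1, 0)) (fun _ => (0, 1))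
  let s₀ : Multiset (MvPolynomial (Fin s.card ⊕ Fin t.card) ℤ) := Finset.univ.val.map fun i => X (Sum.inl i)
  let t₀ : Multiset (MvPolynomial (Fin s.card ⊕ Fin t.card) ℤ) := Finset.univ.val.map fun i => X (Sum.inr i)
  have hw : ∀ i, IsWeightedHomogeneous w (Sum.elim (es s₀) (es t₀) i) (wt2 i) := by
    rintro (i | i)
    · have := isWeightedHomogeneous_esymm (w' := w) s₀ (1, 0) (fun x hx => by
        obtain ⟨j, -, rfl⟩ := Multiset.mem_map.1 hx; exact isWeightedHomogeneous_X ℤ w (Sum.inl j)) (i + 1)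
      simpa [wt2, es] using this
    · have := isWeightedHomogeneous_esymm (w' := w) t₀ (0, 1) (fun x hx => by
        obtain ⟨j, -, rfl⟩ := Multiset.mem_map.1 hx; exact isWeightedHomogeneous_X ℤ w (Sum.inr j)) (i + 1)
      simpa [wt2, es] using this
  have hzero : aeval (Sum.elim (es s₀) (es t₀)) (weightedHomogeneousComponent wt2 e (mulU m)) = 0 := by
    rw [← weightedHomogeneousComponent_aeval hw, mulU_spec]
    have hh := isWeightedHomogeneous_esymm (w' := w) (prodMs s₀ t₀) (1, 1) (fun x hx => by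
      obtain ⟨p, hp, hx⟩ := Multiset.mem_bind.1 hx
      obtain ⟨j, -, rfl⟩ := Multiset.mem_map.1 hp
      obtain ⟨q, hq, rfl⟩ := Multiset.mem_map.1 hx
      obtain ⟨k, -, rfl⟩ := Multiset.mem_map.1 hq
      simpa [w] using (isWeightedHomogeneous_X ℤ w (Sum.inl j)).mul (isWeightedHomogeneous_X ℤ w (Sum.inr k))) m
    simp only [Prod.smul_mk, smul_eq_mul, mul_one] at hh
    exact hh.weightedHomogeneousComponent_ne e he
  have := congrArg (aeval (Sum.elim a b)) hzero
  rw [← AlgHom.comp_apply, comp_aeval, map_zero] at this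
  rw [← this]
  congr 2
  funext i
  rcases i with i | i
  · show es s i = (aeval (Sum.elim a b)).toRingHom (es s₀ i)
    rw [map_es]
    congr 1
    simp only [s₀, Multiset.map_map]
    conv_lhs => rw [ha]
    exact Multiset.map_congr rfl fun j _ => by simp
  · show es t i = (aeval (Sum.elim a b)).toRingHom (es t₀ i)
    rw [map_es]
    congr 1
    simp only [t₀, Multiset.map_map]
    conv_lhs => rw [hb]
    exact Multiset.map_congr rfl fun j _ => by simp

lemma prodMs_eq_mulGen (n : ℕ) :
    prodMs ((gen n ℤ).map (rename (R := ℤ) (Sum.inl : Fin n → Fin n ⊕ Fin n))) ((gen n ℤ).map (rename Sum.inr)) =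
      (Finset.univ : Finset (Fin n × Fin n)).val.map fun ab => X (Sum.inl ab.1) * X (Sum.inr ab.2) := by
  rw [← Finset.univ_product_univ, Finset.product_val]
  simp only [prodMs, gen, Multiset.bind_map, Multiset.map_map]
  show _ = Multiset.map _ (Multiset.product _ _)
  simp only [Multiset.product, Multiset.map_bind, Multiset.map_map, Function.comp_def, rename_X]

/-- `mulU n` gives Mathlib-free universal polynomials in the sense of `IsMulPoly`. -/
lemma isMulPoly_kill2 (n : ℕ) : IsMulPoly n (kill2 n (mulU n)) := by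
  constructor
  · rw [mulGen, ← prodMs_eq_mulGen, ← mulU_spec]
    conv_rhs => rw [← rename_kill2 (N := n) (p := mulU n) fun i hi => vars_lt_of_weighted2 (isWeightedHomogeneous_mulU n) hi,
      aeval_rename]
    congr 2
    funext i
    rcases i with i | i
    · exact (es2_inl (N := n) (i : ℕ)).symm
    · exact (es2_inr (N := n) (i : ℕ)).symm
  · rw [kill2]
    refine isWeightedHomogeneous_aeval (w := wt2) (fun i => ?_) (isWeightedHomogeneous_mulU n)
    rcases i with i | i
    · simp only [Sum.elim_inl]; split_ifs with h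
      · exact isWeightedHomogeneous_X ℤ _ (Sum.inl (⟨i, h⟩ : Fin n))
      · exact isWeightedHomogeneous_zero ℤ _ _
    · simp only [Sum.elim_inr]; split_ifs with h
      · exact isWeightedHomogeneous_X ℤ _ (Sum.inr (⟨i, h⟩ : Fin n))
      · exact isWeightedHomogeneous_zero ℤ _ _

lemma eq_kill2_of_isMulPoly {n : ℕ} {P : MvPolynomial (Fin n ⊕ Fin n) ℤ} (hP : IsMulPoly n P) :
    P = kill2 n (mulU n) := by
  have h := hP.1.trans (isMulPoly_kill2 n).1.symm
  apply es2_injective
  convert h using 3 <;>
  · funext i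
    rcases i with i | i
    · exact es2_inl (N := n) (i : ℕ)
    · exact es2_inr (N := n) (i : ℕ)

lemma exists_compU (i j : ℕ) : ∃ Q : MvPolynomial ℕ ℤ, IsWeightedHomogeneous wt Q (i * j) ∧
    ∀ (R : Type) [CommRing R] (s : Multiset R),
      aeval (es s) Q = ((s.powersetCard i).map Multiset.prod).esymm j := by
  obtain ⟨q, hq, hqe⟩ := exists_sym (B := ℤ) (fun R _ _ s => ((s.powersetCard i).map Multiset.prod).esymm j)
    (fun R S _ _ _ _ f s => by
      show (f : R →+* S) _ = _
      rw [map_esymm, Multiset.powersetCard_map, Multiset.map_map, Multiset.map_map]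
      congr 1
      exact Multiset.map_congr rfl fun t _ => map_multiset_prod (f : R →+* S) t)
    (fun R _ _ s => by
      cases i with
      | zero => simp
      | succ i =>
        rw [Multiset.powersetCard_cons, Multiset.map_add, Multiset.map_map]
        have : ((s.powersetCard i).map (Multiset.prod ∘ Multiset.cons (0 : R))) =
            Multiset.replicate (s.powersetCard i).card 0 := by
          simp [Function.comp_def]
        rw [this, esymm_add_zeros])
    (i * j) (fun N => by
      have := isWeightedHomogeneous_esymm (w' := fun _ : Fin N => 1) (((gen N ℤ).powersetCard i).map Multiset.prod) i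
        (fun x hx => by
          obtain ⟨t, ht, rfl⟩ := Multiset.mem_map.1 hx
          rw [Multiset.mem_powersetCard] at ht
          have h1 := isWeightedHomogeneous_multiset_prod (w' := fun _ : Fin N => 1) t 1 fun y hy => by
            obtain ⟨k, -, rfl⟩ := Multiset.mem_map.1 (Multiset.mem_of_le ht.1 hy)
            exact isWeightedHomogeneous_X ℤ _ k
          simpa [ht.2] using h1) j
      rwa [smul_eq_mul, mul_comm] at this)
  exact ⟨q, hq, fun R _ s => by convert hqe R s⟩

/-- the universal polynomial for `λ^j(λ^i x)` -/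
def compU (i j : ℕ) : MvPolynomial ℕ ℤ := (exists_compU i j).choose

lemma compU_spec (i j : ℕ) (R : Type) [CommRing R] [Algebra ℤ R] (s : Multiset R) :
    aeval (es s) (compU i j) = ((s.powersetCard i).map Multiset.prod).esymm j := by
  obtain rfl : ‹Algebra ℤ R› = Ring.toIntAlgebra R := Subsingleton.elim _ _
  exact (exists_compU i j).choose_spec.2 R s

lemma isWeightedHomogeneous_compU (i j : ℕ) : IsWeightedHomogeneous wt (compU i j) (i * j) :=
  (exists_compU i j).choose_spec.1

lemma gen_eq_compGen (i j : ℕ) :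
    compGen (i * j) i j = aeval (es (gen (i * j) ℤ)) (compU i j) := by
  rw [compU_spec, compGen, gen, Multiset.powersetCard_map, Multiset.map_map, ← Finset.map_val_val_powersetCard, Multiset.map_map]
  rfl

lemma isCompPoly_kill (i j : ℕ) : IsCompPoly i j (kill (i * j) (compU i j)) := by
  constructor
  · rw [gen_eq_compGen]
    conv_rhs => rw [← rename_kill (N := i * j) (p := compU i j) fun k hk => vars_lt_of_weighted (isWeightedHomogeneous_compU i j) hk,
      aeval_gen_rename, esymmAlgHom_apply]
  · rw [kill]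
    refine isWeightedHomogeneous_aeval (w := wt) (fun k => ?_) (isWeightedHomogeneous_compU i j)
    split_ifs with h
    · exact isWeightedHomogeneous_X ℤ _ (⟨k, h⟩ : Fin (i * j))
    · exact isWeightedHomogeneous_zero ℤ _ _

lemma eq_kill_of_isCompPoly {i j : ℕ} {Q : MvPolynomial (Fin (i * j)) ℤ} (hQ : IsCompPoly i j Q) :
    Q = kill (i * j) (compU i j) := by
  have h := hQ.1.trans (isCompPoly_kill i j).1.symm
  apply esymmAlgHom_injective ℤ (σ := Fin (i * j)) (by simp)
  apply Subtype.ext
  rwa [esymmAlgHom_apply, esymmAlgHom_apply]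

lemma exists_powU (i k : ℕ) : ∃ Q : MvPolynomial ℕ ℤ,
    ∀ (R : Type) [CommRing R] (s : Multiset R), aeval (es s) Q = (s.map (· ^ (k + 1))).esymm i := by
  obtain ⟨q, -, hqe⟩ := exists_sym (B := ℤ) (fun R _ _ s => (s.map (· ^ (k + 1))).esymm i)
    (fun R S _ _ _ _ f s => by
      show (f : R →+* S) _ = _
      rw [map_esymm, Multiset.map_map, Multiset.map_map]
      congr 1
      exact Multiset.map_congr rfl fun a _ => by simp)
    (fun R _ _ s => by
      rw [Multiset.map_cons, zero_pow (Nat.succ_ne_zero k)]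
      cases i with
      | zero => simp [esymm_zero']
      | succ i => rw [esymm_cons', zero_mul, add_zero])
    (i * (k + 1)) (fun N => by
      have := isWeightedHomogeneous_esymm (w' := fun _ : Fin N => 1) ((gen N ℤ).map (· ^ (k + 1))) (k + 1)
        (fun x hx => by
          obtain ⟨y, hy, rfl⟩ := Multiset.mem_map.1 hx
          obtain ⟨m, -, rfl⟩ := Multiset.mem_map.1 hy
          have hx := (isWeightedHomogeneous_X ℤ (fun _ : Fin N => 1) m).pow (k + 1)
          rwa [smul_eq_mul, mul_one] at hx) i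
      rwa [smul_eq_mul] at this)
  exact ⟨q, fun R _ s => by convert hqe R s⟩

/-- the universal polynomial for `ψ^{k+1}(λ^i x)` -/
def powU (i k : ℕ) : MvPolynomial ℕ ℤ := (exists_powU i k).choose

lemma powU_spec (i k : ℕ) (R : Type) [CommRing R] [Algebra ℤ R] (s : Multiset R) :
    aeval (es s) (powU i k) = (s.map (· ^ (k + 1))).esymm i := by
  obtain rfl : ‹Algebra ℤ R› = Ring.toIntAlgebra R := Subsingleton.elim _ _
  exact (exists_powU i k).choose_spec R s

/-- the Newton polynomials -/
def newtU (k : ℕ) : MvPolynomial ℕ ℤ := psum (cser X) k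

lemma aeval_newtU {R : Type*} [CommRing R] [Algebra ℤ R] (c : ℕ → R) (k : ℕ) : aeval c (newtU k) = psum (cser c) k := by
  show (aeval c).toRingHom (newtU k) = _
  rw [newtU, map_psum _ (constantCoeff_cser _), map_cser]
  congr 2
  funext i
  exact aeval_X c i

lemma aeval_newtU_es {R : Type} [CommRing R] [Algebra ℤ R] (s : Multiset R) (k : ℕ) :
    aeval (es s) (newtU (k + 1)) = (s.map (· ^ (k + 1))).sum := by
  rw [aeval_newtU, ← genSer_eq_cser, psum_genSer]

lemma newt_mul (k : ℕ) : bind₁ (fun i => mulU (i + 1)) (newtU (k + 1)) =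
    rename Sum.inl (newtU (k + 1)) * rename Sum.inr (newtU (k + 1)) := by
  refine eq_of_forall2 fun R _ s t => ?_
  rw [aeval_bind₁, map_mul, aeval_rename, aeval_rename, Sum.elim_comp_inl, Sum.elim_comp_inr,
    show (fun i => aeval (Sum.elim (es s) (es t)) (mulU (i + 1))) = es (prodMs s t) from funext fun i => mulU_spec _ R s t,
    aeval_newtU_es, aeval_newtU_es, aeval_newtU_es, prodMs, Multiset.map_bind, Multiset.sum_bind, ← Multiset.sum_map_mul_right]
  congr 1
  refine Multiset.map_congr rfl fun a _ => ?_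
  rw [Multiset.map_map, ← Multiset.sum_map_mul_left]
  simp [Function.comp_def, mul_pow]

lemma newt_comp (i k : ℕ) : bind₁ (fun j => compU i (j + 1)) (newtU (k + 1)) = powU i k := by
  refine eq_of_forall fun R _ _ s => ?_
  rw [aeval_bind₁, powU_spec,
    show (fun j => aeval (es s) (compU i (j + 1))) = es ((s.powersetCard i).map Multiset.prod) from funext fun j => compU_spec i _ R s,
    aeval_newtU_es, Multiset.map_map, Multiset.esymm, Multiset.powersetCard_map, Multiset.map_map]
  congr 1
  exact Multiset.map_congr rfl fun t _ => by simp [Multiset.prod_map_pow]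

lemma newt_pow (k l : ℕ) : bind₁ (fun i => powU (i + 1) k) (newtU (l + 1)) = newtU ((k + 1) * (l + 1)) := by
  refine eq_of_forall fun R _ _ s => ?_
  rw [aeval_bind₁, show (fun i => aeval (es s) (powU (i + 1) k)) = es (s.map (· ^ (k + 1))) from
      funext fun i => powU_spec _ _ R s,
    aeval_newtU_es, show (k + 1) * (l + 1) = (k * l + k + l) + 1 by ring, aeval_newtU_es, Multiset.map_map]
  congr 1
  refine Multiset.map_congr rfl fun a _ => ?_
  rw [Function.comp_apply, ← pow_mul]
  congr 1; ring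

lemma mulU_zero : mulU 0 = 1 := eq_of_forall2 fun R _ s t => by rw [mulU_spec, esymm_zero', map_one]

lemma compU_zero (i : ℕ) : compU i 0 = 1 := eq_of_forall fun R _ _ s => by
  rw [compU_spec, esymm_zero', map_one]

lemma powU_zero (k : ℕ) : powU 0 k = 1 := eq_of_forall fun R _ _ s => by
  rw [powU_spec, esymm_zero', map_one]

end Groth.Agent.LamR
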